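/-
The local subgroup of the module of a block: general facts and the case that the block acts on `O_p(G)` only
through its module.
-/
import Cfsg.Agent.BlockPair.Quad

set_option autoImplicit false

namespace Cfsg.Lib.BlockNormal

set_option linter.style.haveILetI false
set_option linter.unusedSectionVars false

open Subgroup Cfsg.Lib.BlockPair
open scoped commutatorElement

universe u

variable {G : Type u} [Group G] [Finite G] {p : ℕ} [hp : Fact p.Prime] {E : Subgroup G}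

/-- commutators of a power when the layers have exponent `p` -/
theorem pow_layer {A B C : Subgroup G} {h : G} (h1 : ∀ a ∈ A, ⁅h, a⁆ ∈ B) (h2 : ∀ b ∈ B, ⁅h, b⁆ ∈ C)
    (hC : ∀ c ∈ C, h * c * h⁻¹ ∈ C) (hBp : ∀ b ∈ B, b ^ p ∈ C) : ∀ a ∈ A, ⁅h ^ p, a⁆ ∈ C := by
  intro a ha
  set b := ⁅h, a⁆ with hb
  have hit : ∀ k : ℕ, ∃ c ∈ C, h ^ k * a * (h ^ k)⁻¹ = c * b ^ k * a := by
    intro k
    induction k with
    | zero => exact ⟨1, one_mem _, by simp⟩
    | succ k ih =>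
      obtain ⟨c, hc, e⟩ := ih
      refine ⟨h * c * h⁻¹ * ⁅h, b ^ k⁆, mul_mem (hC c hc) (h2 _ (pow_mem (h1 a ha) k)), ?_⟩
      calc h ^ (k + 1) * a * (h ^ (k + 1))⁻¹ = h * (h ^ k * a * (h ^ k)⁻¹) * h⁻¹ := by rw [pow_succ']; group
        _ = (h * c * h⁻¹) * ⁅h, b ^ k⁆ * b ^ k * (⁅h, a⁆ * a) := by
          rw [e]; simp only [commutatorElement_def]; group
        _ = _ := by rw [← hb, pow_succ]; group
  obtain ⟨c, hc, e⟩ := hit p
  rw [commutatorElement_def, e, mul_inv_cancel_right]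
  exact mul_mem hc (hBp b (h1 a ha))

/-- the normalizer of `[W, E]` -/
abbrev hOf (p : ℕ) (E : Subgroup G) : Subgroup G := normalizer (w1Of p E : Set G)

/-- its largest normal `p`-subgroup -/
abbrev rOf (p : ℕ) (E : Subgroup G) : Subgroup G := Cfsg.pCoreOf p (hOf p E)

theorem normalizer_le_hOf (hE : IsBlk p E) : normalizer (E : Set G) ≤ hOf p E := fun _ hg =>
  Cfsg.Lib.Large.mem_normalizer_of_le _ fun _ hu => conj_w1_self hE hg hu

theorem centralizer_le_hOf : centralizer (w1Of p E : Set G) ≤ hOf p E := centralizer_le_normalizer _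

theorem conj_cOf {y c : G} (hy : y ∈ hOf p E) (hc : c ∈ centralizer (w1Of p E : Set G)) :
    y * c * y⁻¹ ∈ centralizer (w1Of p E : Set G) := by
  refine mem_centralizer_iff.2 fun u hu => ?_
  have h := mem_centralizer_iff.1 hc _ (Cfsg.Lib.Large.conj_mem' _ (inv_mem hy) hu)
  calc u * (y * c * y⁻¹) = y * (y⁻¹ * u * y⁻¹⁻¹ * c) * y⁻¹ := by group
    _ = y * (c * (y⁻¹ * u * y⁻¹⁻¹)) * y⁻¹ := by rw [h]
    _ = y * c * y⁻¹ * u := by group

theorem isPGroup_rOf : IsPGroup p (rOf p E) := (Cfsg.Lib.Components.isPGroup_pCore p).map _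

theorem rOf_le : rOf p E ≤ hOf p E := map_subtype_le _

theorem conj_rOf {g r : G} (hg : g ∈ hOf p E) (hr : r ∈ rOf p E) : g * r * g⁻¹ ∈ rOf p E :=
  Cfsg.Lib.Large.conj_mem' _ (Cfsg.Lib.Large.normalizer_pCoreOf_le _ (le_normalizer hg)) hr

theorem core_le_rOf (hE : IsBlk p E) : Cfsg.pCore p G ≤ rOf p E :=
  haveI : (Cfsg.pCore p G).Normal := Cfsg.Lib.Components.pCore_normal' p
  Cfsg.Lib.Large.le_pCoreOf ((core_le_normalizer hE).trans (normalizer_le_hOf hE))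
    (Cfsg.Lib.Components.isPGroup_pCore p) le_normalizer_of_normal

theorem mem_rOf_of_commute (hG : centralizer (Cfsg.pCore p G : Set G) ≤ Cfsg.pCore p G) (hE : IsBlk p E) {g : G}
    (h : ∀ r ∈ rOf p E, Commute g r) : g ∈ rOf p E :=
  core_le_rOf hE (hG (mem_centralizer_iff.2 fun r hr => (h r (core_le_rOf hE hr)).eq.symm))

theorem baumann_le_hOf {T : Sylow p G} (hE : Cfsg.IsBaumannBlock p (T : Subgroup G) E) :
    Cfsg.baumannSubgroupOf p (T : Subgroup G) ≤ hOf p E :=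
  (Cfsg.Lib.BlockBasic.baumann_le_normalizer hE.2.1).trans (normalizer_le_hOf ⟨T, hE⟩)

theorem rOf_le_normalizer {T : Sylow p G} (hE : Cfsg.IsBaumannBlock p (T : Subgroup G) E) :
    rOf p E ≤ normalizer (E : Set G) :=
  Cfsg.Lib.BlockBasic.le_normalizer_block T hE.1 hE.2.1 isPGroup_rOf
    ((baumann_le_hOf hE).trans (le_normalizer.trans (Cfsg.Lib.Large.normalizer_pCoreOf_le _)))
    ((le_normalizer.trans (normalizer_le_hOf ⟨T, hE⟩)).trans
      (le_normalizer.trans (Cfsg.Lib.Large.normalizer_pCoreOf_le _)))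

theorem comm_rOf {T : Sylow p G} (hE : Cfsg.IsBaumannBlock p (T : Subgroup G) E) {e r : G} (he : e ∈ E)
    (hr : r ∈ rOf p E) : ⁅e, r⁆ ∈ qOf p E := by
  have heH : e ∈ hOf p E := normalizer_le_hOf ⟨T, hE⟩ (le_normalizer he)
  have hrn := rOf_le_normalizer hE hr
  refine Cfsg.Lib.Large.le_pCoreOf (inf_le_left : E ⊓ rOf p E ≤ E) (isPGroup_rOf.to_le inf_le_right)
    (fun x hx => Cfsg.Lib.Large.mem_normalizer_of_le _ fun y hy => mem_inf.2
      ⟨mul_mem (mul_mem hx (mem_inf.1 hy).1) (inv_mem hx),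
        conj_rOf (normalizer_le_hOf ⟨T, hE⟩ (le_normalizer hx)) (mem_inf.1 hy).2⟩) (mem_inf.2 ⟨?_, ?_⟩)
  · rw [commutatorElement_def, show e * r * e⁻¹ * r⁻¹ = e * (r * e⁻¹ * r⁻¹) by group]
    exact mul_mem he ((mem_normalizer_iff.1 hrn _).1 (inv_mem he))
  · rw [commutatorElement_def]
    exact mul_mem (conj_rOf heH hr) (inv_mem hr)

/-- a `p`-subgroup containing the commutators of `c` with the block makes `c` normalize it -/
theorem conclude {T : Sylow p G} (hE : Cfsg.IsBaumannBlock p (T : Subgroup G) E) {K : Subgroup G}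
    (hK : IsPGroup p K) (hBK : Cfsg.baumannSubgroupOf p (T : Subgroup G) ≤ normalizer (K : Set G))
    (hEK : E ≤ normalizer (K : Set G)) {c : G} (h : ∀ e ∈ E, (orderOf e).Coprime p → ⁅c, e⁆ ∈ K) :
    c ∈ normalizer (E : Set G) := by
  have hKE := Cfsg.Lib.BlockBasic.le_normalizer_block T hE.1 hE.2.1 hK hBK hEK
  rw [mem_normalizer_iff_map_conj_eq]
  refine Subgroup.eq_of_le_of_card_ge ?_
    (Cfsg.Lib.Thompson.card_map_of_injOn (MulAut.conj c).injective.injOn).ge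
  conv_lhs => rw [← Cfsg.Lib.BlockBasic.closure_coprime_elements hE.1]
  rw [MonoidHom.map_closure, closure_le]
  rintro _ ⟨e, ⟨he, hco⟩, rfl⟩
  refine Cfsg.Lib.PIrr.coprime_mem hK hKE ?_ ?_
  · show c * e * c⁻¹ ∈ E ⊔ K
    rw [show c * e * c⁻¹ = ⁅c, e⁆ * e by rw [commutatorElement_def]; group]
    exact mul_mem (mem_sup_right (h e he hco)) (mem_sup_left he)
  · rwa [orderOf_injective _ (MulAut.conj c).injective]

/-- if the block moves `O_p(G)` only inside its module then the centralizer of the module normalizes it -/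
theorem normalizes_of_small (hG : centralizer (Cfsg.pCore p G : Set G) ≤ Cfsg.pCore p G) {T : Sylow p G}
    (hE : Cfsg.IsBaumannBlock p (T : Subgroup G) E)
    (hs : ∀ e ∈ E, ∀ x ∈ Cfsg.pCore p G, ⁅e, x⁆ ∈ wOf p E) :
    centralizer (w1Of p E : Set G) ≤ normalizer (E : Set G) := by
  haveI : (Cfsg.pCore p G).Normal := Cfsg.Lib.Components.pCore_normal' p
  have hE' : IsBlk p E := ⟨T, hE⟩
  have hW1P : w1Of p E ≤ Cfsg.pCore p G := (w1_le_vOf hG hE').trans (vOf_le.trans inf_le_left)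
  let S : Subgroup G :=
    { carrier := {h | h ∈ hOf p E ∧ ∀ x ∈ Cfsg.pCore p G, ⁅h, x⁆ ∈ w1Of p E}
      one_mem' := ⟨one_mem _, fun x _ => by simp [one_mem]⟩
      mul_mem' := by
        rintro a b ⟨ha, ha'⟩ ⟨hb, hb'⟩
        refine ⟨mul_mem ha hb, fun x hx => ?_⟩
        rw [show ⁅a * b, x⁆ = a * ⁅b, x⁆ * a⁻¹ * ⁅a, x⁆ by simp only [commutatorElement_def]; group]
        exact mul_mem (Cfsg.Lib.Large.conj_mem' _ ha (hb' x hx)) (ha' x hx)
      inv_mem' := by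
        rintro a ⟨ha, ha'⟩
        refine ⟨inv_mem ha, fun x hx => ?_⟩
        rw [show ⁅a⁻¹, x⁆ = a⁻¹ * ⁅a, x⁆⁻¹ * a⁻¹⁻¹ by simp only [commutatorElement_def]; group]
        exact Cfsg.Lib.Large.conj_mem' _ (inv_mem ha) (inv_mem (ha' x hx)) }
  have hconjS : ∀ y ∈ hOf p E, ∀ h ∈ S, y * h * y⁻¹ ∈ S := by
    rintro y hy h ⟨hh, hh'⟩
    refine ⟨mul_mem (mul_mem hy hh) (inv_mem hy), fun x hx => ?_⟩
    rw [show ⁅y * h * y⁻¹, x⁆ = y * ⁅h, y⁻¹ * x * y⁻¹⁻¹⁆ * y⁻¹ by simp only [commutatorElement_def]; group]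
    exact Cfsg.Lib.Large.conj_mem' _ hy (hh' _ (Subgroup.Normal.conj_mem inferInstance x hx _))
  have hES : E ≤ S := by
    conv_lhs => rw [← Cfsg.Lib.BlockBasic.closure_coprime_elements hE.1]
    rw [closure_le]
    rintro e ⟨he, hco⟩
    exact ⟨normalizer_le_hOf hE' (le_normalizer he), fun x hx => comm_mem_w1 hE' he hco (hs e he x hx)⟩
  set K := S ⊓ centralizer (w1Of p E : Set G) with hKdef
  have hK : IsPGroup p K := by
    rintro ⟨h, hh⟩
    obtain ⟨⟨-, h1⟩, hc⟩ := mem_inf.1 hh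
    obtain ⟨i, hi⟩ := pow_eq_one_of_stab hG hW1P le_rfl h1 (fun w hw => h1 w (hW1P hw))
      (fun w hw => (mem_centralizer_iff.1 hc w hw).symm)
    exact ⟨i, Subtype.ext hi⟩
  have hn : ∀ y ∈ hOf p E, y ∈ normalizer (K : Set G) := fun y hy =>
    Cfsg.Lib.Large.mem_normalizer_of_le _ fun k hk =>
      mem_inf.2 ⟨hconjS y hy k (mem_inf.1 hk).1, conj_cOf hy (mem_inf.1 hk).2⟩
  intro c hc
  have hcH := centralizer_le_hOf hc
  refine conclude hE hK (fun b hb => hn b (baumann_le_hOf hE hb))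
    (fun e he => hn e (normalizer_le_hOf hE' (le_normalizer he))) fun e he _ => mem_inf.2 ⟨?_, ?_⟩
  · rw [commutatorElement_def]
    exact mul_mem (hconjS c hcH e (hES he)) (inv_mem (hES he))
  · rw [commutatorElement_def, show c * e * c⁻¹ * e⁻¹ = c * (e * c⁻¹ * e⁻¹) by group]
    exact mul_mem hc (conj_cOf (normalizer_le_hOf hE' (le_normalizer he)) (inv_mem hc))

/-- in the remaining case the top of the block lies in `O_p(G)` -/
theorem qOf_le_of_moved (hG : centralizer (Cfsg.pCore p G : Set G) ≤ Cfsg.pCore p G) {T : Sylow p G}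
    (hE : Cfsg.IsBaumannBlock p (T : Subgroup G) E) {e x : G} (he : e ∈ E) (hx : x ∈ Cfsg.pCore p G)
    (hex : ⁅e, x⁆ ∉ wOf p E) : qOf p E ≤ Cfsg.pCore p G ∧ qOf p E ≠ wOf p E := by
  haveI : (Cfsg.pCore p G).Normal := Cfsg.Lib.Components.pCore_normal' p
  have hE' : IsBlk p E := ⟨T, hE⟩
  set P := Cfsg.pCore p G with hP
  have hexQ : ⁅e, x⁆ ∈ qOf p E := comm_rOf hE he (core_le_rOf hE' hx)
  rcases top_kind hE' with h | ⟨-, ⟨hWQ, -, -, hEW, hirr, -⟩, hQQ, -⟩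
  · exact absurd (h ▸ hexQ) hex
  refine ⟨?_, fun h => hex (h ▸ hexQ)⟩
  set N := qOf p E ⊓ P with hN
  have hEN : ∀ g ∈ E, ∀ y ∈ N, g * y * g⁻¹ ∈ N := fun g hg y hy => mem_inf.2
    ⟨conj_qOf (le_normalizer hg) (mem_inf.1 hy).1, Subgroup.Normal.conj_mem inferInstance y (mem_inf.1 hy).2 g⟩
  have hNW : N ≤ normalizer (wOf p E : Set G) := fun y hy => hEW (qOf_le E (mem_inf.1 hy).1)
  have hsup : N ⊔ wOf p E = qOf p E := by
    refine (hirr _ le_sup_right (sup_le inf_le_left hWQ) fun g hg y hy => ?_).resolve_left fun h => hex ?_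
    · rw [← SetLike.mem_coe, coe_mul_of_left_le_normalizer_right _ _ hNW] at hy
      obtain ⟨a, ha, w, hw, rfl⟩ := Set.mem_mul.1 hy
      rw [show g * (a * w) * g⁻¹ = (g * a * g⁻¹) * (g * w * g⁻¹) by group]
      exact mul_mem (mem_sup_left (hEN g hg a ha)) (mem_sup_right (conj_wOf (le_normalizer hg) hw))
    · rw [← h]
      refine mem_sup_left (mem_inf.2 ⟨hexQ, ?_⟩)
      rw [commutatorElement_def]
      exact mul_mem (Subgroup.Normal.conj_mem inferInstance x hx e) (inv_mem hx)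
  have hdec : ∀ q ∈ qOf p E, ∃ a ∈ N, ∃ w ∈ wOf p E, q = a * w := by
    intro q hq
    rw [← hsup, ← SetLike.mem_coe, coe_mul_of_left_le_normalizer_right _ _ hNW] at hq
    obtain ⟨a, ha, w, hw, h⟩ := Set.mem_mul.1 hq
    exact ⟨a, ha, w, hw, h.symm⟩
  have hcen : ∀ {w q : G}, w ∈ wOf p E → q ∈ qOf p E → Commute q w := fun {w q} hw hq =>
    mem_centralizer_iff.1 (mem_inf.1 (wOf_le E hw)).2 q hq
  have hZP : zOf p E ≤ P := by
    rw [← hQQ, commutator_le]
    intro q hq q' hq'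
    obtain ⟨a, ha, w, hw, rfl⟩ := hdec q hq
    obtain ⟨a', ha', w', hw', rfl⟩ := hdec q' hq'
    have h1 : ⁅a * w, a' * w'⁆ = ⁅a, a'⁆ := by
      calc ⁅a * w, a' * w'⁆ = a * (w * (a' * w') * w⁻¹) * a⁻¹ * (a' * w')⁻¹ := by
            rw [commutatorElement_def]; group
        _ = (a * a') * (w' * a⁻¹) * (w'⁻¹ * a'⁻¹) := by
            rw [← (hcen hw hq').eq, mul_inv_cancel_right]; group
        _ = ⁅a, a'⁆ := by
            rw [← (hcen hw' (inv_mem (mem_inf.1 ha).1)).eq, commutatorElement_def]; group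
    rw [h1, commutatorElement_def]
    exact mul_mem (mul_mem (mul_mem (mem_inf.1 ha).2 (mem_inf.1 ha').2) (inv_mem (mem_inf.1 ha).2))
      (inv_mem (mem_inf.1 ha').2)
  rw [← hsup, sup_le_iff]
  refine ⟨inf_le_right, ?_⟩
  rw [← (wOf_eq_sup hE').1]
  exact sup_le ((w1_le_vOf hG hE').trans (vOf_le.trans inf_le_left)) hZP

end Cfsg.Lib.BlockNormal
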