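/-
An exceptional block has no complement to the module inside its largest normal subgroup which is invariant
under the Baumann subgroup.
-/
import Cfsg.Agent.BlockPair.Quad

set_option autoImplicit false

namespace Cfsg.Lib.BlockNormal

set_option linter.style.haveILetI false
set_option linter.unusedSectionVars false

open Subgroup Matrix Cfsg.Lib.BlockPair
open scoped commutatorElement MatrixGroups

universe u

variable {G : Type u} [Group G] [Finite G] [Fact (Nat.Prime 3)] {E : Subgroup G} {K : Type} [Field K] [Fintype K]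

theorem exc_split_false (hG : centralizer (Cfsg.pCore 3 G : Set G) ≤ Cfsg.pCore 3 G) (hE : IsBlk 3 E)
    (X : ExcMod 3 E K) {C : Subgroup G} (hCQ : C ≤ qOf 3 E)
    (hsplit : ∀ q ∈ qOf 3 E, ∃ t ∈ w1Of 3 E, ∃ c ∈ C, q = t * c) (hCW : C ⊓ wOf 3 E ≤ zOf 3 E)
    (hbC : ∀ b ∈ Cfsg.baumannSubgroupOf 3 (X.T : Subgroup G), ∀ c ∈ C, b * c * b⁻¹ ∈ C) : False := by
  obtain ⟨b, hbB, hbW⟩ := exists_mem_notMem_centralizer hE X.hEB
  have hbE : b ∈ normalizer (E : Set G) := Cfsg.Lib.BlockBasic.baumann_le_normalizer X.hEB hbB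
  obtain ⟨⟨M1, hM1⟩, ⟨M2, hM2⟩⟩ := X.exists_lin hE hbE fun h4 => by
    obtain ⟨e, he, hk⟩ := X.D.baumann_inner hG hE h4 X.T
      (Cfsg.Lib.BlockBasic.baumann_le_normalizer X.hEB) hbB
    rw [← mul_inv_cancel_left e b]
    exact mul_mem (mem_sup_left he) (mem_sup_right (mem_kOne_of_trivMod hE hk))
  obtain ⟨j, hj⟩ := X.T.2 ⟨b, (mem_inf.1 hbB).1⟩
  have hbp : b ^ 3 ^ j = 1 := congrArg Subtype.val hj
  haveI : CharP K 3 := X.D.ringChar_eq ▸ ringChar.charP K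
  have hp1 : M1 ^ 3 ^ j = 1 := by
    have h : ∀ (n : ℕ) v, X.D.act' (pow_mem hbE n) v = M1 ^ n *ᵥ v := by
      intro n
      induction n with
      | zero =>
        intro v
        rw [X.D.act'_congr (pow_zero b) _ (one_mem _), X.D.act'_one, pow_zero, one_mulVec]
      | succ n ih =>
        intro v
        rw [X.D.act'_congr (pow_succ' b n) _ (mul_mem hbE (pow_mem hbE n)), X.D.act'_mul hbE (pow_mem hbE n), ih,
          hM1, Matrix.mulVec_mulVec, ← pow_succ']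
    refine Matrix.ext_iff_mulVec.mpr fun v => ?_
    rw [← h, X.D.act'_congr hbp _ (one_mem _), X.D.act'_one, one_mulVec]
  have hp2 : M2 ^ 3 ^ j = 1 := by
    have h : ∀ (n : ℕ) v, X.act' (pow_mem hbE n) v = M2 ^ n *ᵥ v := by
      intro n
      induction n with
      | zero =>
        intro v
        rw [X.act'_congr (pow_zero b) _ (one_mem _), X.act'_one, pow_zero, one_mulVec]
      | succ n ih =>
        intro v
        rw [X.act'_congr (pow_succ' b n) _ (mul_mem hbE (pow_mem hbE n)), X.act'_mul hbE (pow_mem hbE n), ih,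
          hM2, Matrix.mulVec_mulVec, ← pow_succ']
    refine Matrix.ext_iff_mulVec.mpr fun v => ?_
    rw [← h, X.act'_congr hbp _ (one_mem _), X.act'_one, one_mulVec]
  have hq : ∀ (M : Matrix (Fin 2) (Fin 2) K), M ^ 3 ^ j = 1 → ∀ v, (v - M *ᵥ v) - M *ᵥ (v - M *ᵥ v) = 0 := by
    intro M hM v
    have h := congrArg (fun N => N *ᵥ v) (mat_quad (p := 3) hM)
    simp only [← Matrix.mulVec_mulVec, Matrix.sub_mulVec, one_mulVec, Matrix.zero_mulVec, Matrix.mulVec_sub] at h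
    rw [Matrix.mulVec_sub]
    linear_combination (norm := abel) h
  -- quadratic on the module
  have hWquad : ∀ w ∈ wOf 3 E, ⁅⁅w, b⁆, b⁆ ∈ zOf 3 E := by
    intro w hw
    let d : ↥(wOf 3 E) → ↥(wOf 3 E) := fun y => y * (conjW hbE y)⁻¹
    have hd1 : ∀ y : ↥(wOf 3 E), ((d y : ↥(wOf 3 E)) : G) = ⁅(y : G), b⁆ := fun y => by
      show (y : G) * (b * (y : G) * b⁻¹)⁻¹ = _
      rw [commutatorElement_def]; group
    have hd2 : ∀ y, X.D.crd (d y) = X.D.crd y - M1 *ᵥ X.D.crd y := fun y => by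
      rw [← hM1, X.D.act'_crd]
      simp only [d, LinMod.crd, map_mul, map_inv, toAdd_mul, toAdd_inv, sub_eq_add_neg]
    have h : ((d (d ⟨w, hw⟩) : ↥(wOf 3 E)) : G) = ⁅⁅w, b⁆, b⁆ := by rw [hd1, hd1]
    rw [← h, ← X.D.crd_eq_zero, hd2, hd2]
    exact hq M1 hp1 _
  have hQquad : ∀ q ∈ qOf 3 E, ⁅⁅q, b⁆, b⁆ ∈ wOf 3 E := by
    intro q hq'
    let d : ↥(qOf 3 E) → ↥(qOf 3 E) := fun y => y * (conjQ hbE y)⁻¹
    have hd1 : ∀ y : ↥(qOf 3 E), ((d y : ↥(qOf 3 E)) : G) = ⁅(y : G), b⁆ := fun y => by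
      show (y : G) * (b * (y : G) * b⁻¹)⁻¹ = _
      rw [commutatorElement_def]; group
    have hd2 : ∀ y, X.crd (d y) = X.crd y - M2 *ᵥ X.crd y := fun y => by
      rw [← hM2, X.act'_crd]
      simp only [d, ExcMod.crd, map_mul, map_inv, toAdd_mul, toAdd_inv, sub_eq_add_neg]
    have h : ((d (d ⟨q, hq'⟩) : ↥(qOf 3 E)) : G) = ⁅⁅q, b⁆, b⁆ := by rw [hd1, hd1]
    rw [← h, ← X.kerψ']
    apply Multiplicative.toAdd.injective
    show X.crd (d (d ⟨q, hq'⟩)) = 0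
    rw [hd2, hd2]
    exact hq M2 hp2 _
  -- the filtration
  have hbZ : ∀ y ∈ zOf 3 E, ⁅y, b⁆ ∈ zOf 3 E := fun y hy => by
    rw [commutatorElement_def, show y * b * y⁻¹ * b⁻¹ = y * (b * y * b⁻¹)⁻¹ by group]
    exact mul_mem hy (inv_mem (conj_zOf hbE hy))
  have hQQ : ∀ a ∈ qOf 3 E, ∀ a' ∈ qOf 3 E, ⁅a, a'⁆ ∈ zOf 3 E := fun a ha a' ha' =>
    X.comm ▸ commutator_mem_commutator ha ha'
  have hQb : ∀ q ∈ qOf 3 E, ⁅q, b⁆ ∈ qOf 3 E := fun q hq => by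
    rw [commutatorElement_def, show q * b * q⁻¹ * b⁻¹ = q * (b * q * b⁻¹)⁻¹ by group]
    exact mul_mem hq (inv_mem (conj_qOf hbE hq))
  have hQZ : ∀ a ∈ qOf 3 E, ∀ y ∈ zOf 3 E, a * y * a⁻¹ ∈ zOf 3 E := fun a ha y hy =>
    conj_zOf (le_normalizer (qOf_le E ha)) hy
  -- the first layer
  let M2s : Subgroup G :=
    { carrier := {y | y ∈ qOf 3 E ∧ ⁅y, b⁆ ∈ zOf 3 E}
      one_mem' := ⟨one_mem _, by simp [one_mem]⟩
      mul_mem' := by
        rintro a a' ⟨ha, ha'⟩ ⟨hb1, hb2⟩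
        refine ⟨mul_mem ha hb1, ?_⟩
        rw [show ⁅a * a', b⁆ = a * ⁅a', b⁆ * a⁻¹ * ⁅a, b⁆ by simp only [commutatorElement_def]; group]
        exact mul_mem (hQZ a ha _ hb2) ha'
      inv_mem' := by
        rintro a ⟨ha, ha'⟩
        refine ⟨inv_mem ha, ?_⟩
        rw [show ⁅a⁻¹, b⁆ = a⁻¹ * ⁅a, b⁆⁻¹ * a⁻¹⁻¹ by simp only [commutatorElement_def]; group]
        exact hQZ _ (inv_mem ha) _ (inv_mem ha') }
  have hconjM2 : ∀ a ∈ qOf 3 E, ∀ y ∈ M2s, a * y * a⁻¹ ∈ M2s := by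
    intro a ha y hy
    rw [show a * y * a⁻¹ = ⁅a, y⁆ * y by rw [commutatorElement_def]; group]
    have hy1 : y ∈ qOf 3 E := hy.1
    exact mul_mem ⟨(wOf_le_qOf E) (mem_inf.1 (hQQ a ha y hy1)).1, hbZ _ (hQQ a ha y hy1)⟩ hy
  let M3s : Subgroup G :=
    { carrier := {y | y ∈ qOf 3 E ∧ ⁅y, b⁆ ∈ M2s}
      one_mem' := ⟨one_mem _, by simp only [commutatorElement_one_left]; exact M2s.one_mem⟩
      mul_mem' := by
        rintro a a' ⟨ha, ha'⟩ ⟨hb1, hb2⟩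
        refine ⟨mul_mem ha hb1, ?_⟩
        rw [show ⁅a * a', b⁆ = a * ⁅a', b⁆ * a⁻¹ * ⁅a, b⁆ by simp only [commutatorElement_def]; group]
        exact mul_mem (hconjM2 a ha _ hb2) ha'
      inv_mem' := by
        rintro a ⟨ha, ha'⟩
        refine ⟨inv_mem ha, ?_⟩
        rw [show ⁅a⁻¹, b⁆ = a⁻¹ * ⁅a, b⁆⁻¹ * a⁻¹⁻¹ by simp only [commutatorElement_def]; group]
        exact hconjM2 _ (inv_mem ha) _ (inv_mem ha') }
  have hall : qOf 3 E ≤ M3s := by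
    intro q hq'
    obtain ⟨t, ht, c, hc, rfl⟩ := hsplit q hq'
    have htW : t ∈ wOf 3 E := w1_le_wOf hE ht
    have h1 : t ∈ M3s := ⟨wOf_le_qOf E htW, hQb t (wOf_le_qOf E htW), hWquad t htW⟩
    have h2 : c ∈ M3s := by
      have hbc : ∀ d ∈ C, ⁅d, b⁆ ∈ C := fun d hd => by
        rw [commutatorElement_def, show d * b * d⁻¹ * b⁻¹ = d * (b * d * b⁻¹)⁻¹ by group]
        exact mul_mem hd (inv_mem (hbC b hbB d hd))
      exact ⟨(hCQ hc), hQb c (hCQ hc),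
        hCW (mem_inf.2 ⟨hbc _ (hbc c hc), hQquad c (hCQ hc)⟩)⟩
    exact mul_mem h1 h2
  -- powers
  have hbM2 : ∀ y ∈ M2s, b * y * b⁻¹ ∈ M2s := by
    rintro y ⟨hy, hy'⟩
    refine ⟨conj_qOf hbE hy, ?_⟩
    rw [show ⁅b * y * b⁻¹, b⁆ = b * ⁅y, b⁆ * b⁻¹ by simp only [commutatorElement_def]; group]
    exact conj_zOf hbE hy'
  have hzp : ∀ (N : Subgroup G) (q : G), (∀ y ∈ N, b * y * b⁻¹ ∈ N) → ⁅q, b⁆ ∈ N → ∀ n : ℕ, ⁅q, b ^ n⁆ ∈ N := by
    intro N q hN h n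
    induction n with
    | zero => simp [one_mem]
    | succ n ih =>
      rw [pow_succ', show ⁅q, b * b ^ n⁆ = ⁅q, b⁆ * (b * ⁅q, b ^ n⁆ * b⁻¹) by
        simp only [commutatorElement_def]; group]
      exact mul_mem h (hN _ ih)
  refine X.h9 b hbB hbW ?_
  rw [X.cen]
  have hfirst : ⁅qOf 3 E, zpowers b⁆ ≤ M2s := by
    rw [commutator_le]
    intro q hq' y hy
    obtain ⟨n, rfl⟩ := mem_powers_iff_mem_zpowers.2 hy
    exact hzp M2s q hbM2 (hall hq').2 n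
  rw [commutator_le]
  intro q hq' y hy
  obtain ⟨n, rfl⟩ := mem_powers_iff_mem_zpowers.2 hy
  exact hzp (zOf 3 E) q (fun y hy => conj_zOf hbE hy) (hfirst hq').2 n

end Cfsg.Lib.BlockNormal
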