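/-
An exceptional block inside the largest normal `3`-subgroup of the normalizer of its module: commutator
pairing, and the impossibility of a reflection of the module with a trivial quotient action.
-/
import Cfsg.Agent.BlockNormal.Setup
import Cfsg.Agent.BlockNormal.Split

set_option autoImplicit false

namespace Cfsg.Lib.BlockNormal

set_option linter.style.haveILetI false
set_option linter.unusedSectionVars false

open Subgroup Matrix Cfsg.Lib.BlockPair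
open scoped commutatorElement MatrixGroups

universe u

variable {G : Type u} [Group G] [Finite G] [Fact (Nat.Prime 3)] {E : Subgroup G} {K : Type} [Field K] [Fintype K]

/-- the situation -/
structure Ex (E : Subgroup G) (K : Type) [Field K] [Fintype K] where
  /-- coordinates -/
  X : ExcMod 3 E K
  hG : centralizer (Cfsg.pCore 3 G : Set G) ≤ Cfsg.pCore 3 G
  hblk : Cfsg.IsBaumannBlock 3 (X.T : Subgroup G) E
  top : qOf 3 E ≤ rOf 3 E
  cardZ : Nat.card ↥(zOf 3 E) = Fintype.card K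

/-- the determinant of two vectors -/
def det2 (v w : Fin 2 → K) : K := v 0 * w 1 - v 1 * w 0

theorem inv_eq_mul_self {u : G} (h : u ^ 3 = 1) : u⁻¹ = u * u :=
  inv_eq_of_mul_eq_one_left (by rwa [mul_assoc, ← pow_three])

theorem det2_zero_left (w : Fin 2 → K) : det2 (0 : Fin 2 → K) w = 0 := by simp [det2]

theorem eq_zero_of_det2 {w : Fin 2 → K} (h : ∀ v, det2 v w = 0) : w = 0 := by
  funext i
  fin_cases i
  · have := h ![0, 1]; simp [det2] at this; exact this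
  · have := h ![1, 0]; simp [det2] at this; exact this

variable (S : Ex E K)
include S

theorem Ex.isBlk : IsBlk 3 E := ⟨S.X.T, S.hblk⟩

theorem Ex.charP : CharP K 3 := S.X.D.ringChar_eq ▸ ringChar.charP K

theorem Ex.three_zero : (3 : K) = 0 := by
  haveI := S.charP
  exact_mod_cast CharP.cast_eq_zero K 3

theorem Ex.two_ne : (2 : K) ≠ 0 := fun h => one_ne_zero (α := K) (by linear_combination S.three_zero - h)

theorem Ex.rn {r : G} (hr : r ∈ rOf 3 E) : r ∈ normalizer (E : Set G) := rOf_le_normalizer S.hblk hr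

theorem Ex.eR {e r : G} (he : e ∈ E) (hr : r ∈ rOf 3 E) : e * r * e⁻¹ ∈ rOf 3 E :=
  conj_rOf (normalizer_le_hOf S.isBlk (le_normalizer he)) hr

theorem Ex.fixed_all {U U₀ : Subgroup G} (h : Irr 3 E U U₀) (hUp : IsPGroup 3 U)
    (hRU : rOf 3 E ≤ normalizer (U : Set G)) (hRU₀ : ∀ r ∈ rOf 3 E, ∀ y ∈ U₀, r * y * r⁻¹ ∈ U₀)
    (hUU₀ : ∀ u ∈ U, ∀ y ∈ U₀, u * y * u⁻¹ ∈ U₀) : ∀ u ∈ U, ∀ r ∈ rOf 3 E, ⁅u, r⁆ ∈ U₀ := by
  obtain ⟨h0, hne, hEU, hEU₀, hirr, -⟩ := h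
  have hnot : ¬ U ≤ U₀ := fun h' => hne (le_antisymm h' h0)
  obtain ⟨u0, hu0, hu0', hfix⟩ := exists_fixed_group hUp hnot isPGroup_rOf hRU
  let F : Subgroup G :=
    { carrier := {u | u ∈ U ∧ ∀ r ∈ rOf 3 E, ⁅u, r⁆ ∈ U₀}
      one_mem' := ⟨one_mem _, fun r _ => by simp [one_mem]⟩
      mul_mem' := by
        rintro a b ⟨ha, ha'⟩ ⟨hb, hb'⟩
        refine ⟨mul_mem ha hb, fun r hr => ?_⟩
        rw [show ⁅a * b, r⁆ = a * ⁅b, r⁆ * a⁻¹ * ⁅a, r⁆ by simp only [commutatorElement_def]; group]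
        exact mul_mem (hUU₀ a ha _ (hb' r hr)) (ha' r hr)
      inv_mem' := by
        rintro a ⟨ha, ha'⟩
        refine ⟨inv_mem ha, fun r hr => ?_⟩
        rw [show ⁅a⁻¹, r⁆ = a⁻¹ * ⁅a, r⁆⁻¹ * a⁻¹⁻¹ by simp only [commutatorElement_def]; group]
        exact hUU₀ _ (inv_mem ha) _ (inv_mem (ha' r hr)) }
  have hF : F = U₀ ∨ F = U := by
    refine hirr F (fun y hy => ⟨h0 hy, fun r hr => ?_⟩) (fun y hy => hy.1) fun e he y hy => ⟨?_, fun r hr => ?_⟩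
    · rw [show ⁅y, r⁆ = y * (r * y⁻¹ * r⁻¹) by rw [commutatorElement_def]; group]
      exact mul_mem hy (hRU₀ r hr _ (inv_mem hy))
    · exact Cfsg.Lib.Large.conj_mem' _ (hEU he) hy.1
    · rw [show ⁅e * y * e⁻¹, r⁆ = e * ⁅y, e⁻¹ * r * e⁻¹⁻¹⁆ * e⁻¹ by simp only [commutatorElement_def]; group]
      exact Cfsg.Lib.Large.conj_mem' _ (hEU₀ he) (hy.2 _ (S.eR (inv_mem he) hr))
  rcases hF with hF | hF
  · exact absurd (hF ▸ (⟨hu0, hfix⟩ : u0 ∈ F)) hu0'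
  · exact fun u hu => (hF.ge hu).2

theorem Ex.qr {q r : G} (hq : q ∈ qOf 3 E) (hr : r ∈ rOf 3 E) : ⁅q, r⁆ ∈ wOf 3 E := by
  rcases top_kind S.isBlk with h | ⟨-, h, -, -⟩
  · rw [commutatorElement_def, show q * r * q⁻¹ * r⁻¹ = q * (r * q⁻¹ * r⁻¹) by group]
    rw [h] at hq
    exact mul_mem hq (conj_wOf (S.rn hr) (inv_mem hq))
  · exact S.fixed_all h (isPGroup_qOf E) (fun r hr => Cfsg.Lib.Large.mem_normalizer_of_le _ fun _ hy =>
      conj_qOf (S.rn hr) hy) (fun r hr y hy => conj_wOf (S.rn hr) hy)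
      (fun u hu y hy => conj_wOf (le_normalizer (qOf_le E hu)) hy) q hq r hr

theorem Ex.z_comm {w r : G} (hw : w ∈ zOf 3 E) (hr : r ∈ rOf 3 E) : Commute r w := by
  suffices h : zOf 3 E ≤ centralizer (rOf 3 E : Set G) from mem_centralizer_iff.1 (h hw) r hr
  rw [← S.X.comm, commutator_le]
  intro a ha b hb
  refine mem_centralizer_iff.2 fun x hx => mul_inv_eq_iff_eq_mul.1 ?_
  have hcen : ∀ {w q : G}, w ∈ wOf 3 E → q ∈ qOf 3 E → Commute q w := fun {w q} hw hq =>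
    mem_centralizer_iff.1 (mem_inf.1 (wOf_le E hw)).2 q hq
  have hxn := S.rn hx
  obtain ⟨wa, hwa, ea⟩ : ∃ w ∈ wOf 3 E, x * a * x⁻¹ = a * w := by
    refine ⟨⁅a⁻¹, x⁆, S.qr (inv_mem ha) hx, ?_⟩
    simp only [commutatorElement_def]; group
  obtain ⟨wb, hwb, eb⟩ : ∃ w ∈ wOf 3 E, x * b * x⁻¹ = b * w := by
    refine ⟨⁅b⁻¹, x⁆, S.qr (inv_mem hb) hx, ?_⟩
    simp only [commutatorElement_def]; group
  calc x * ⁅a, b⁆ * x⁻¹ = ⁅a * wa, b * wb⁆ := by rw [← ea, ← eb]; simp only [commutatorElement_def]; group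
    _ = a * (wa * (b * wb) * wa⁻¹) * a⁻¹ * (b * wb)⁻¹ := by rw [commutatorElement_def]; group
    _ = (a * b) * (wb * a⁻¹) * (wb⁻¹ * b⁻¹) := by
      rw [← (hcen hwa (mul_mem hb (wOf_le_qOf E hwb))).eq, mul_inv_cancel_right]; group
    _ = ⁅a, b⁆ := by rw [← (hcen hwb (inv_mem ha)).eq, commutatorElement_def]; group

theorem Ex.w1_comm {w r : G} (hw : w ∈ w1Of 3 E) (hr : r ∈ rOf 3 E) : Commute r w := by
  suffices h : w1Of 3 E ≤ centralizer (rOf 3 E : Set G) from mem_centralizer_iff.1 (h hw) r hr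
  rw [w1Of, commutator_le]
  intro a ha e he
  refine mem_centralizer_iff.2 fun x hx => mul_inv_eq_iff_eq_mul.1 ?_
  have hfix := S.fixed_all (irr_module S.isBlk) (isPGroup_wOf E) (fun r hr =>
    Cfsg.Lib.Large.mem_normalizer_of_le _ fun _ hy => conj_wOf (S.rn hr) hy)
    (fun r hr y hy => conj_zOf (S.rn hr) hy)
    (fun u hu y hy => conj_zOf (le_normalizer (qOf_le E (wOf_le_qOf E hu))) hy)
  have hxn := S.rn hx
  set z0 := ⁅a⁻¹, x⁆ with hz0
  have hz0Z : z0 ∈ zOf 3 E := hfix _ (inv_mem ha) x hx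
  set q := ⁅x, e⁆ with hq
  have hqQ : q ∈ qOf 3 E := by
    have := inv_mem (comm_rOf S.hblk he hx)
    rwa [commutatorElement_inv] at this
  have hd : ⁅a, e⁆ ∈ wOf 3 E :=
    le_normalizer_iff_commutator_le_left.mp (irr_module S.isBlk).2.2.1 (commutator_mem_commutator ha he)
  calc x * ⁅a, e⁆ * x⁻¹ = ⁅a * z0, q * e⁆ := by
        rw [hz0, hq]; simp only [commutatorElement_def]; group
    _ = ⁅a, q * e⁆ := comm_decompose hz0Z (mul_mem (qOf_le E hqQ) he)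
    _ = (a * q) * a⁻¹ * q⁻¹ * (q * ⁅a, e⁆ * q⁻¹) := by simp only [commutatorElement_def]; group
    _ = ⁅a, e⁆ := by
      rw [← show q * a = a * q from mem_centralizer_iff.1 (mem_inf.1 (wOf_le E ha)).2 q hqQ, mul_inv_cancel_right,
        mul_inv_cancel, one_mul, mem_centralizer_iff.1 (mem_inf.1 (wOf_le E hd)).2 q hqQ, mul_inv_cancel_right]

theorem Ex.w_comm {w r : G} (hw : w ∈ wOf 3 E) (hr : r ∈ rOf 3 E) : Commute r w := by
  obtain ⟨a, ha, z, hz, rfl⟩ := decompose S.isBlk hw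
  exact (S.w1_comm ha hr).mul_right (S.z_comm hz hr)

theorem Ex.exists_z : ∃ z, z ∈ E ∧ (orderOf z).Coprime 3 ∧ z * z = 1 ∧
    (∀ u ∈ w1Of 3 E, z * u * z⁻¹ = u⁻¹) ∧ ∃ hz : z ∈ E, S.X.D.ρ ⟨z, hz⟩ = -1 ∧ S.X.ρ' ⟨z, hz⟩ = -1 := by
  have hE := S.isBlk
  obtain ⟨⟨x, hxE⟩, hx⟩ : ∃ x, S.X.D.ρ x = -1 := by
    have := neg_one_mem_commutator (F := K) (by rw [S.X.D.ringChar_eq]; norm_num)
    rw [← S.X.D.range] at this
    exact this
  obtain ⟨i, m, hm, hxm⟩ := Nat.exists_eq_pow_mul_and_not_dvd (orderOf_pos x).ne' 3 (by norm_num)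
  set z := x ^ 3 ^ i with hz
  have hzE : z ∈ E := pow_mem hxE _
  have hzρ : S.X.D.ρ ⟨z, hzE⟩ = -1 := by
    rw [show (⟨z, hzE⟩ : ↥E) = ⟨x, hxE⟩ ^ 3 ^ i from Subtype.ext (by simp [hz]), map_pow, hx]
    exact Odd.neg_one_pow (Odd.pow (by decide))
  have hco : (orderOf z).Coprime 3 := by
    refine Nat.Coprime.coprime_dvd_left (orderOf_dvd_of_pow_eq_one (n := m) ?_)
      ((Nat.prime_three.coprime_iff_not_dvd.2 hm).symm)
    rw [hz, ← pow_mul, ← hxm, pow_orderOf_eq_one]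
  have hzz : z * z ∈ qOf 3 E := (S.X.D.kerρ ⟨z * z, mul_mem hzE hzE⟩).1 (by
    rw [show (⟨z * z, mul_mem hzE hzE⟩ : ↥E) = ⟨z, hzE⟩ * ⟨z, hzE⟩ from rfl, map_mul, hzρ, neg_mul_neg, one_mul])
  have hz1 : z * z = 1 := by
    obtain ⟨j, hj⟩ := pow_of_pgroup (isPGroup_qOf E) hzz
    refine orderOf_eq_one_iff.1 (Nat.eq_one_of_dvd_coprimes (hco.pow_right j) ?_ (orderOf_dvd_of_pow_eq_one hj))
    rw [← pow_two]; exact orderOf_pow_dvd 2
  refine ⟨z, hzE, hco, hz1, S.X.D.neg_one_inverts hE (by norm_num) hzE hzρ, hzE, hzρ, ?_⟩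
  have h2 : S.X.ρ' ⟨z, hzE⟩ * S.X.ρ' ⟨z, hzE⟩ = 1 := by
    rw [← map_mul, show (⟨z, hzE⟩ : ↥E) * ⟨z, hzE⟩ = 1 from Subtype.ext hz1, map_one]
  refine (sl_sq_eq_one h2 S.two_ne).resolve_left fun h1 => ?_
  rcases top_kind hE with h | ⟨-, ⟨-, -, -, -, -, hfaith⟩, -, -⟩
  · obtain ⟨u, hu⟩ := S.X.surj' (Multiplicative.ofAdd fun _ => (1 : K))
    rw [(S.X.kerψ' u).2 (show (u : G) ∈ wOf 3 E from h ▸ u.2)] at hu
    exact one_ne_zero (congrFun (congrArg Multiplicative.toAdd hu).symm 0)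
  · have hzQ : z ∈ qOf 3 E := hfaith z hzE fun u hu => by
      have he := S.X.act'_elem ⟨z, hzE⟩ (S.X.crd ⟨u, hu⟩)
      rw [h1, S.X.act'_crd] at he
      have h3 := (S.X.crd_eq_iff (conjQ (le_normalizer hzE) ⟨u, hu⟩) ⟨u, hu⟩).1
        (he.trans (one_mulVec _))
      have h4 := conj_wOf (le_normalizer (qOf_le E hu)) h3
      have e : u * ((conjQ (le_normalizer hzE) ⟨u, hu⟩ : G)⁻¹ * u) * u⁻¹ = ⁅u, z⁆ := by
        show u * ((z * u * z⁻¹)⁻¹ * u) * u⁻¹ = _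
        rw [commutatorElement_def]; group
      exact e ▸ h4
    have := (S.X.D.kerρ ⟨z, hzE⟩).2 hzQ
    rw [hzρ] at this
    have h00 := congrArg (fun g : SL(2, K) => (g : Matrix (Fin 2) (Fin 2) K) 0 0) this
    simp at h00
    exact S.two_ne (by linear_combination -h00)

/-- the involution -/
noncomputable def Ex.z : G := S.exists_z.choose

theorem Ex.zE : S.z ∈ E := S.exists_z.choose_spec.1

theorem Ex.z_sq : S.z * S.z = 1 := S.exists_z.choose_spec.2.2.1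

theorem Ex.z_inv : S.z⁻¹ = S.z := inv_eq_of_mul_eq_one_right S.z_sq

theorem Ex.z_w1 {u : G} (hu : u ∈ w1Of 3 E) : S.z * u * S.z⁻¹ = u⁻¹ := S.exists_z.choose_spec.2.2.2.1 u hu

theorem Ex.ρ'_z : S.X.ρ' ⟨S.z, S.zE⟩ = -1 := S.exists_z.choose_spec.2.2.2.2.choose_spec.2

theorem Ex.crd_z (q : ↥(qOf 3 E)) : S.X.crd (conjQ (le_normalizer S.zE) q) = -S.X.crd q := by
  rw [← S.X.act'_crd, S.X.act'_elem ⟨S.z, S.zE⟩, S.ρ'_z, neg_one_mulVec']

theorem Ex.crd_eq_zero (q : ↥(qOf 3 E)) : S.X.crd q = 0 ↔ (q : G) ∈ wOf 3 E := by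
  rw [← S.X.kerψ']
  exact ⟨fun h => Multiplicative.toAdd.injective h, fun h => congrArg Multiplicative.toAdd h⟩

theorem Ex.q_cube {q : G} (hq : q ∈ qOf 3 E) : q ^ 3 ∈ wOf 3 E := by
  have h := S.crd_eq_zero (⟨q, hq⟩ * ⟨q, hq⟩ * ⟨q, hq⟩)
  rw [S.X.crd_mul, S.X.crd_mul] at h
  rw [show q ^ 3 = q * q * q by rw [pow_three, mul_assoc]]
  refine h.1 (funext fun i => ?_)
  show S.X.crd ⟨q, hq⟩ i + S.X.crd ⟨q, hq⟩ i + S.X.crd ⟨q, hq⟩ i = 0
  linear_combination S.X.crd ⟨q, hq⟩ i * S.three_zero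

theorem Ex.inf_bot {u : G} (hu : u ∈ w1Of 3 E) (hz : u ∈ zOf 3 E) : u = 1 :=
  S.X.D.inf_eq_bot_odd S.isBlk (by norm_num) u hu hz

/-- the centre component of an element of the module -/
noncomputable def Ex.nu (w : G) : G := (S.z * w * S.z⁻¹ * w)⁻¹

theorem Ex.nu_decompose {a z0 : G} (ha : a ∈ w1Of 3 E) (hz : z0 ∈ zOf 3 E) : S.nu (a * z0) = z0 := by
  have hc : Commute S.z z0 := mem_centralizer_iff.1 (mem_inf.1 hz).2 _ S.zE
  have hb : S.z * z0 * S.z⁻¹ = z0 := by rw [hc.eq, mul_inv_cancel_right]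
  have hac : Commute z0 a := wOf_comm E (mem_inf.1 hz).1 (w1_le_wOf S.isBlk ha)
  have e : S.z * (a * z0) * S.z⁻¹ * (a * z0) = z0 * z0 :=
    calc S.z * (a * z0) * S.z⁻¹ * (a * z0) = (S.z * a * S.z⁻¹) * (S.z * z0 * S.z⁻¹) * (a * z0) := by group
      _ = a⁻¹ * (z0 * a) * z0 := by rw [S.z_w1 ha, hb]; group
      _ = _ := by rw [hac.eq]; group
  rw [Ex.nu, e, ← inv_eq_mul_self (wOf_pow E (mem_inf.1 hz).1), inv_inv]

theorem Ex.nu_mem {w : G} (hw : w ∈ wOf 3 E) : S.nu w ∈ zOf 3 E := by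
  obtain ⟨a, ha, z, hz, rfl⟩ := decompose S.isBlk hw
  rwa [S.nu_decompose ha hz]

theorem Ex.nu_z {z0 : G} (hz : z0 ∈ zOf 3 E) : S.nu z0 = z0 := by
  simpa using S.nu_decompose (one_mem _) hz

theorem Ex.nu_eq_one {w : G} (hw : w ∈ wOf 3 E) : S.nu w = 1 ↔ w ∈ w1Of 3 E := by
  obtain ⟨a, ha, z, hz, rfl⟩ := decompose S.isBlk hw
  rw [S.nu_decompose ha hz]
  refine ⟨fun h => by rwa [h, mul_one], fun h => S.inf_bot ?_ hz⟩
  have := mul_mem (inv_mem ha) h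
  rwa [inv_mul_cancel_left] at this

theorem Ex.nu_mul {a b : G} (ha : a ∈ wOf 3 E) (hb : b ∈ wOf 3 E) : S.nu (a * b) = S.nu a * S.nu b := by
  obtain ⟨a1, ha1, a2, ha2, rfl⟩ := decompose S.isBlk ha
  obtain ⟨b1, hb1, b2, hb2, rfl⟩ := decompose S.isBlk hb
  rw [S.nu_decompose ha1 ha2, S.nu_decompose hb1 hb2, show a1 * a2 * (b1 * b2) = a1 * b1 * (a2 * b2) by
    rw [mul_assoc, ← mul_assoc a2, (wOf_comm E (mem_inf.1 ha2).1 (w1_le_wOf S.isBlk hb1)).eq]; group,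
    S.nu_decompose (mul_mem ha1 hb1) (mul_mem ha2 hb2)]

theorem Ex.nu_one : S.nu 1 = 1 := (S.nu_eq_one (one_mem _)).2 (one_mem _)

theorem Ex.nu_comm {a b : G} (h : ⁅a, b⁆ ∈ wOf 3 E) : S.nu ⁅b, a⁆ = (S.nu ⁅a, b⁆)⁻¹ := by
  refine eq_inv_of_mul_eq_one_left ?_
  rw [← commutatorElement_inv a b, ← S.nu_mul (inv_mem h) h, inv_mul_cancel, S.nu_one]

theorem Ex.nu_mul_left {a b r : G} (ha : a ∈ rOf 3 E) (h1 : ⁅a, r⁆ ∈ wOf 3 E) (h2 : ⁅b, r⁆ ∈ wOf 3 E) :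
    ⁅a * b, r⁆ ∈ wOf 3 E ∧ S.nu ⁅a * b, r⁆ = S.nu ⁅a, r⁆ * S.nu ⁅b, r⁆ := by
  have e : ⁅a * b, r⁆ = ⁅b, r⁆ * ⁅a, r⁆ := by
    rw [show ⁅a * b, r⁆ = a * ⁅b, r⁆ * a⁻¹ * ⁅a, r⁆ by simp only [commutatorElement_def]; group,
      (S.w_comm h2 ha).eq, mul_inv_cancel_right]
  rw [e, S.nu_mul h2 h1]
  exact ⟨mul_mem h2 h1, wOf_comm E (mem_inf.1 (S.nu_mem h2)).1 (mem_inf.1 (S.nu_mem h1)).1⟩

theorem Ex.qq {a b : G} (ha : a ∈ qOf 3 E) (hb : b ∈ qOf 3 E) : ⁅a, b⁆ ∈ zOf 3 E :=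
  S.X.comm ▸ commutator_mem_commutator ha hb

theorem Ex.qq_mul_left {a b c : G} (ha : a ∈ qOf 3 E) (hb : b ∈ qOf 3 E) (hc : c ∈ qOf 3 E) :
    ⁅a * b, c⁆ = ⁅a, c⁆ * ⁅b, c⁆ := by
  rw [show ⁅a * b, c⁆ = a * ⁅b, c⁆ * a⁻¹ * ⁅a, c⁆ by simp only [commutatorElement_def]; group,
    (S.z_comm (S.qq hb hc) (S.top ha)).eq, mul_inv_cancel_right,
    (wOf_comm E (mem_inf.1 (S.qq hb hc)).1 (mem_inf.1 (S.qq ha hc)).1).eq]

theorem Ex.wq {a w : G} (ha : a ∈ qOf 3 E) (hw : w ∈ wOf 3 E) : ⁅w, a⁆ = 1 :=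
  commutatorElement_eq_one_iff_mul_comm.2 (mem_centralizer_iff.1 (mem_inf.1 (wOf_le E hw)).2 a ha).symm

/-- the commutator pairing is a bijective image of the determinant -/
theorem Ex.exists_phi : ∃ φ : K → G, Function.Injective φ ∧ φ 0 = 1 ∧
    (∀ a b : ↥(qOf 3 E), ⁅(a : G), (b : G)⁆ = φ (det2 (S.X.crd a) (S.X.crd b))) ∧ ∀ y ∈ zOf 3 E, ∃ t, φ t = y := by
  classical
  let f : (Fin 2 → K) → (Fin 2 → K) → G := fun v w =>
    ⁅((S.X.exists_crd v).choose : G), ((S.X.exists_crd w).choose : G)⁆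
  have hwd : ∀ a a' b : ↥(qOf 3 E), S.X.crd a = S.X.crd a' → ⁅(a : G), (b : G)⁆ = ⁅(a' : G), (b : G)⁆ := by
    intro a a' b h
    have hw := (S.X.crd_eq_iff a a').1 h
    conv_rhs => rw [show (a' : G) = a * ((a : G)⁻¹ * a') by group, S.qq_mul_left a.2 (wOf_le_qOf E hw) b.2,
      S.wq b.2 hw, mul_one]
  have hf : ∀ a b : ↥(qOf 3 E), f (S.X.crd a) (S.X.crd b) = ⁅(a : G), (b : G)⁆ := by
    intro a b
    have h1 := hwd _ a (S.X.exists_crd (S.X.crd b)).choose (S.X.exists_crd (S.X.crd a)).choose_spec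
    have h2 := hwd _ b a (S.X.exists_crd (S.X.crd b)).choose_spec
    show ⁅((S.X.exists_crd (S.X.crd a)).choose : G), ((S.X.exists_crd (S.X.crd b)).choose : G)⁆ = _
    rw [h1, ← commutatorElement_inv ((S.X.exists_crd (S.X.crd b)).choose : G) a, h2, commutatorElement_inv]
  have hanti : ∀ v w, f w v = (f v w)⁻¹ := fun v w => (commutatorElement_inv _ _).symm
  have hadd : ∀ u v w, f (u + v) w = f u w * f v w := by
    intro u v w
    obtain ⟨a, rfl⟩ := S.X.exists_crd u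
    obtain ⟨b, rfl⟩ := S.X.exists_crd v
    obtain ⟨c, rfl⟩ := S.X.exists_crd w
    rw [← S.X.crd_mul, hf, hf, hf]
    exact S.qq_mul_left a.2 b.2 c.2
  have hfZ : ∀ v w, f v w ∈ zOf 3 E := fun v w => S.qq (Subtype.prop _) (Subtype.prop _)
  have hadd' : ∀ u v w, f w (u + v) = f w u * f w v := by
    intro u v w
    rw [hanti (u + v) w, hadd, _root_.mul_inv_rev, ← hanti, ← hanti,
      (wOf_comm E (mem_inf.1 (hfZ w v)).1 (mem_inf.1 (hfZ w u)).1).eq]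
  have hz0 : ∀ w, f 0 w = 1 := fun w => by
    have := hadd 0 0 w
    rwa [add_zero, left_eq_mul] at this
  have hz0' : ∀ w, f w 0 = 1 := fun w => by rw [hanti, hz0, inv_one]
  have hinv : ∀ g ∈ S.X.ρ'.range, ∀ v w,
      f ((g : Matrix (Fin 2) (Fin 2) K) *ᵥ v) ((g : Matrix (Fin 2) (Fin 2) K) *ᵥ w) = f v w := by
    rintro _ ⟨e, rfl⟩ v w
    obtain ⟨a, rfl⟩ := S.X.exists_crd v
    obtain ⟨b, rfl⟩ := S.X.exists_crd w
    rw [← S.X.act'_elem, ← S.X.act'_elem, S.X.act'_crd, S.X.act'_crd, hf, hf]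
    show ⁅(e : G) * a * (e : G)⁻¹, (e : G) * b * (e : G)⁻¹⁆ = _
    rw [show ⁅(e : G) * a * (e : G)⁻¹, (e : G) * b * (e : G)⁻¹⁆ = e * ⁅(a : G), (b : G)⁆ * (e : G)⁻¹ by
      simp only [commutatorElement_def]; group]
    exact mul_inv_eq_iff_eq_mul.2 (mem_centralizer_iff.1 (mem_inf.1 (S.qq a.2 b.2)).2 e e.2)
  have hnat : ∀ (n : ℕ) v w, f ((n : K) • v) w = f v w ^ n ∧ f v ((n : K) • w) = f v w ^ n := by
    intro n v w
    induction n with
    | zero => simp [hz0, hz0']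
    | succ n ih =>
      simp only [Nat.cast_succ, add_smul, one_smul]
      rw [hadd, hadd', ih.1, ih.2, pow_succ]
      exact ⟨rfl, rfl⟩
  have hself : ∀ v, f v v = 1 := fun v => commutatorElement_self _
  -- lines are isotropic
  have hline : ∀ (v : Fin 2 → K) (t : K), f v (t • v) = 1 := by
    intro v t
    by_cases h4 : 4 ≤ Fintype.card K
    · have htop : ∀ g : SL(2, K), g ∈ S.X.ρ'.range := fun g => by
        rw [S.X.range', Cfsg.Lib.Known.sl2_commutator_eq_top K h4]; exact mem_top g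
      have hax : ∀ t, f (Line.ax 1) (Line.ax t) = 1 := by
        intro t
        have h := hinv _ (htop (Line.uni t)) (Line.ax 1) ![0, 1]
        rw [Line.uni_mulVec, Line.uni_mulVec] at h
        simp only [Line.ax, Matrix.cons_val_zero, Matrix.cons_val_one, mul_zero, add_zero, mul_one, zero_add] at h
        rw [show (![t, 1] : Fin 2 → K) = Line.ax t + ![0, 1] by funext i; fin_cases i <;> simp, hadd'] at h
        exact mul_eq_right.1 h
      by_cases hv : v 0 = 0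
      · have e : ∀ l : K, ((Line.wel : SL(2, K)) : Matrix (Fin 2) (Fin 2) K) *ᵥ Line.ax l = ![0, l] :=
          Line.wel_mulVec
        by_cases hv1 : v 1 = 0
        · rw [show v = 0 by funext i; fin_cases i <;> assumption, hz0]
        · let d : SL(2, K) := ⟨!![0, -(v 1)⁻¹; v 1, 0], by simp [det_fin_two, hv1]⟩
          have h1 : ∀ s : K, (d : Matrix (Fin 2) (Fin 2) K) *ᵥ Line.ax s = s • v := by
            intro s; funext i; fin_cases i <;> simp [d, mulVec, dotProduct, Fin.sum_univ_two, hv, mul_comm]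
          have h := hinv _ (htop d) (Line.ax 1) (Line.ax t)
          rwa [h1, h1, one_smul, hax] at h
      · let d : SL(2, K) := ⟨!![v 0, 0; v 1, (v 0)⁻¹], by simp [det_fin_two, hv]⟩
        have h1 : ∀ s : K, (d : Matrix (Fin 2) (Fin 2) K) *ᵥ Line.ax s = s • v := by
          intro s; funext i; fin_cases i <;> simp [d, mulVec, dotProduct, Fin.sum_univ_two, mul_comm]
        have h := hinv _ (htop d) (Line.ax 1) (Line.ax t)
        rwa [h1, h1, one_smul, hax] at h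
    · obtain ⟨n, rfl⟩ := natCast_surj (by rw [(S.X.D.small_card h4).2]; norm_num) t
      rw [(hnat n v v).2, hself, one_pow]
  set φ : K → G := fun t => f (Line.ax 1) ![0, t] with hφ
  have hφadd : ∀ s t, φ (s + t) = φ s * φ t := fun s t => by
    simp only [hφ]
    rw [← hadd', show (![0, s] : Fin 2 → K) + ![0, t] = ![0, s + t] by funext i; fin_cases i <;> simp]
  have hax2 : ∀ a d, f (Line.ax a) ![0, d] = φ (a * d) := by
    intro a d
    by_cases h4 : 4 ≤ Fintype.card K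
    · by_cases ha : a = 0
      · rw [ha, show Line.ax (0 : K) = 0 by funext i; fin_cases i <;> simp, hz0, zero_mul]
        simp only [hφ]
        rw [show (![0, 0] : Fin 2 → K) = 0 by funext i; fin_cases i <;> simp, hz0']
      · let g : SL(2, K) := ⟨!![a⁻¹, 0; 0, a], by simp [det_fin_two, ha]⟩
        have h := hinv g (by rw [S.X.range', Cfsg.Lib.Known.sl2_commutator_eq_top K h4]; exact mem_top g)
          (Line.ax a) ![0, d]
        rw [← h]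
        simp only [hφ]
        congr 1 <;> funext i <;> fin_cases i <;> simp [g, mulVec, dotProduct, Fin.sum_univ_two, ha]
    · obtain ⟨n, rfl⟩ := natCast_surj (by rw [(S.X.D.small_card h4).2]; norm_num) a
      simp only [hφ]
      rw [show Line.ax (n : K) = (n : K) • Line.ax 1 by funext i; fin_cases i <;> simp,
        show (![0, (n : K) * d] : Fin 2 → K) = (n : K) • ![0, d] by funext i; fin_cases i <;> simp,
        (hnat n _ _).1, (hnat n _ _).2]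
  have hdet : ∀ v w, f v w = φ (det2 v w) := by
    intro v w
    have ev : ∀ v : Fin 2 → K, v = Line.ax (v 0) + ![0, v 1] := fun v => by funext i; fin_cases i <;> simp
    have hsame : ∀ b d : K, f ![0, b] ![0, d] = 1 := by
      intro b d
      by_cases hb : b = 0
      · rw [hb, show (![0, 0] : Fin 2 → K) = 0 by funext i; fin_cases i <;> simp, hz0]
      · rw [show (![0, d] : Fin 2 → K) = (d / b) • ![0, b] by funext i; fin_cases i <;> simp [hb], hline]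
    have hsame' : ∀ a c : K, f (Line.ax a) (Line.ax c) = 1 := by
      intro a c
      by_cases ha : a = 0
      · rw [ha, show Line.ax (0 : K) = 0 by funext i; fin_cases i <;> simp, hz0]
      · rw [show Line.ax c = (c / a) • Line.ax a by funext i; fin_cases i <;> simp [ha], hline]
    conv_lhs => rw [ev v, ev w]
    rw [hadd, hadd', hadd', hsame, hsame', one_mul, mul_one, hanti (Line.ax (w 0)), hax2, hax2, det2,
      mul_comm (v 1)]
    have h := hφadd (v 0 * w 1 - w 0 * v 1) (w 0 * v 1)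
    rw [sub_add_cancel] at h
    rw [mul_inv_eq_iff_eq_mul]
    exact h
  have hrange : ∀ y ∈ zOf 3 E, ∃ t, φ t = y := by
    let I : Subgroup G :=
      { carrier := Set.range φ
        one_mem' := ⟨0, by simp only [hφ]; rw [show (![0, 0] : Fin 2 → K) = 0 by
          funext i; fin_cases i <;> simp, hz0']⟩
        mul_mem' := by rintro _ _ ⟨s, rfl⟩ ⟨t, rfl⟩; exact ⟨s + t, hφadd s t⟩
        inv_mem' := by
          rintro _ ⟨s, rfl⟩
          refine ⟨-s, eq_inv_of_mul_eq_one_left ?_⟩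
          rw [← hφadd, neg_add_cancel]
          simp only [hφ]
          rw [show (![0, 0] : Fin 2 → K) = 0 by funext i; fin_cases i <;> simp, hz0'] }
    suffices h : zOf 3 E ≤ I from fun y hy => h hy
    rw [← S.X.comm, commutator_le]
    exact fun a ha b hb => ⟨_, (hdet _ _).symm.trans (hf ⟨a, ha⟩ ⟨b, hb⟩)⟩
  refine ⟨φ, ?_, ?_, fun a b => by rw [← hdet, hf], hrange⟩
  · let g : K → ↥(zOf 3 E) := fun t => ⟨φ t, hfZ _ _⟩
    have hg : Function.Surjective g := fun y => by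
      obtain ⟨t, ht⟩ := hrange y y.2
      exact ⟨t, Subtype.ext ht⟩
    have hb : Function.Bijective g := hg.bijective_of_nat_card_le
      (by rw [S.cardZ, Nat.card_eq_fintype_card])
    exact fun s t h => hb.1 (Subtype.ext h)
  · simp only [hφ]; rw [show (![0, 0] : Fin 2 → K) = 0 by funext i; fin_cases i <;> simp, hz0']

/-- the parametrization of the centre -/
noncomputable def Ex.phi : K → G := S.exists_phi.choose

theorem Ex.phi_injective : Function.Injective S.phi := S.exists_phi.choose_spec.1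

theorem Ex.phi_zero : S.phi 0 = 1 := S.exists_phi.choose_spec.2.1

theorem Ex.comm_eq (a b : ↥(qOf 3 E)) : ⁅(a : G), (b : G)⁆ = S.phi (det2 (S.X.crd a) (S.X.crd b)) :=
  S.exists_phi.choose_spec.2.2.1 a b

theorem Ex.phi_surj {y : G} (hy : y ∈ zOf 3 E) : ∃ t, S.phi t = y := S.exists_phi.choose_spec.2.2.2 y hy

theorem Ex.mem_wOf_of_comm {q : G} (hq : q ∈ qOf 3 E) (h : ∀ u ∈ qOf 3 E, ⁅u, q⁆ = 1) : q ∈ wOf 3 E := by
  refine (S.crd_eq_zero ⟨q, hq⟩).1 (eq_zero_of_det2 fun v => ?_)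
  obtain ⟨u, rfl⟩ := S.X.exists_crd v
  exact S.phi_injective (by rw [← S.comm_eq, h u u.2, S.phi_zero])

/-- no element of the normalizer inverts the module and acts trivially modulo a central elementary subgroup -/
theorem Ex.no_reflection {M : Subgroup G} {s : G} (hs : s ∈ hOf 3 E) (hMp : ∀ m ∈ M, m ^ 3 = 1)
    (h1 : ∀ r ∈ rOf 3 E, ⁅s, r⁆ ∈ M) (h2 : ∀ m ∈ M, ⁅s, m⁆ ∈ w1Of 3 E)
    (hinv : ∀ u ∈ w1Of 3 E, s * u * s⁻¹ = u⁻¹) : False := by
  have hE := S.isBlk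
  have hW1W : w1Of 3 E ≤ wOf 3 E := w1_le_wOf hE
  have hW1R : w1Of 3 E ≤ rOf 3 E := hW1W.trans ((wOf_le_qOf E).trans S.top)
  have hconjW1 : ∀ g ∈ hOf 3 E, ∀ u ∈ w1Of 3 E, g * u * g⁻¹ ∈ w1Of 3 E := fun g hg u hu =>
    Cfsg.Lib.Large.conj_mem' _ hg hu
  set a := s ^ 3 with ha
  have haH : a ∈ hOf 3 E := pow_mem hs 3
  have ha1 : ∀ r ∈ rOf 3 E, ⁅a, r⁆ ∈ w1Of 3 E := pow_layer h1 h2 (fun u hu => hconjW1 s hs u hu)
    fun m hm => by rw [hMp m hm]; exact one_mem _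
  have ha2 : ∀ u ∈ w1Of 3 E, a * u * a⁻¹ = u⁻¹ := by
    intro u hu
    have hu' := hinv u⁻¹ (inv_mem hu)
    rw [inv_inv] at hu'
    calc a * u * a⁻¹ = s * (s * (s * u * s⁻¹) * s⁻¹) * s⁻¹ := by rw [ha, pow_three]; group
      _ = u⁻¹ := by rw [hinv u hu, hu', hinv u hu]
  let Kd : Subgroup G :=
    { carrier := {h | h ∈ hOf 3 E ∧ (∀ u ∈ w1Of 3 E, Commute h u) ∧ ∀ r ∈ rOf 3 E, ⁅h, r⁆ ∈ w1Of 3 E}
      one_mem' := ⟨one_mem _, fun u _ => Commute.one_left u, fun r _ => by simp [one_mem]⟩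
      mul_mem' := by
        rintro x y ⟨hx, hx', hx''⟩ ⟨hy, hy', hy''⟩
        refine ⟨mul_mem hx hy, fun u hu => (hx' u hu).mul_left (hy' u hu), fun r hr => ?_⟩
        rw [show ⁅x * y, r⁆ = x * ⁅y, r⁆ * x⁻¹ * ⁅x, r⁆ by simp only [commutatorElement_def]; group]
        exact mul_mem (hconjW1 x hx _ (hy'' r hr)) (hx'' r hr)
      inv_mem' := by
        rintro x ⟨hx, hx', hx''⟩
        refine ⟨inv_mem hx, fun u hu => (hx' u hu).inv_left, fun r hr => ?_⟩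
        rw [show ⁅x⁻¹, r⁆ = x⁻¹ * ⁅x, r⁆⁻¹ * x⁻¹⁻¹ by simp only [commutatorElement_def]; group]
        exact hconjW1 _ (inv_mem hx) _ (inv_mem (hx'' r hr)) }
  have hKd : Kd ≤ rOf 3 E := by
    refine Cfsg.Lib.Large.le_pCoreOf (fun x hx => hx.1) ?_ ?_
    · rintro ⟨x, hxH, hxC, hx⟩
      have h3 : x ^ 3 ∈ rOf 3 E := mem_rOf_of_commute S.hG hE fun r hr => by
        have := pow_layer (C := (⊥ : Subgroup G)) hx
          (fun u hu => by rw [Subgroup.mem_bot, commutatorElement_eq_one_iff_mul_comm]; exact (hxC u hu).eq)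
          (fun c hc => by rw [Subgroup.mem_bot] at hc ⊢; simp [hc])
          (fun u hu => by rw [Subgroup.mem_bot]; exact wOf_pow E (hW1W hu)) r hr
        exact commutatorElement_eq_one_iff_mul_comm.1 (Subgroup.mem_bot.1 this)
      obtain ⟨j, hj⟩ := pow_of_pgroup isPGroup_rOf h3
      exact ⟨j + 1, Subtype.ext (by show x ^ 3 ^ (j + 1) = 1; rw [pow_succ', pow_mul, hj])⟩
    · refine fun g hg => Cfsg.Lib.Large.mem_normalizer_of_le _ ?_
      rintro x ⟨hxH, hxC, hx⟩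
      refine ⟨mul_mem (mul_mem hg hxH) (inv_mem hg), fun u hu => ?_, fun r hr => ?_⟩
      · have := (hxC _ (hconjW1 _ (inv_mem hg) u hu)).map (MulAut.conj g).toMonoidHom
        simpa [mul_assoc] using this
      · rw [show ⁅g * x * g⁻¹, r⁆ = g * ⁅x, g⁻¹ * r * g⁻¹⁻¹⁆ * g⁻¹ by simp only [commutatorElement_def]; group]
        exact hconjW1 g hg _ (hx _ (conj_rOf (inv_mem hg) hr))
  have haa : a * a ∈ Kd := by
    refine ⟨mul_mem haH haH, fun u hu => mul_inv_eq_iff_eq_mul.1 ?_, fun r hr => ?_⟩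
    · have hu' := ha2 u⁻¹ (inv_mem hu)
      rw [inv_inv] at hu'
      calc a * a * u * (a * a)⁻¹ = a * (a * u * a⁻¹) * a⁻¹ := by group
        _ = u := by rw [ha2 u hu, hu']
    · rw [show ⁅a * a, r⁆ = a * ⁅a, r⁆ * a⁻¹ * ⁅a, r⁆ by simp only [commutatorElement_def]; group]
      exact mul_mem (hconjW1 a haH _ (ha1 r hr)) (ha1 r hr)
  obtain ⟨j, hj⟩ := pow_of_pgroup isPGroup_rOf (hKd haa)
  set t := a ^ 3 ^ j with ht
  have htH : t ∈ hOf 3 E := pow_mem haH _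
  have htt : t * t = 1 := by rw [ht, ← (Commute.refl a).mul_pow, hj]
  have ht1 : ∀ r ∈ rOf 3 E, ⁅t, r⁆ ∈ w1Of 3 E := by
    intro r hr
    suffices h : ∀ n : ℕ, ⁅a ^ n, r⁆ ∈ w1Of 3 E from h _
    intro n
    induction n with
    | zero => simp [one_mem]
    | succ n ih =>
      rw [pow_succ', show ⁅a * a ^ n, r⁆ = a * ⁅a ^ n, r⁆ * a⁻¹ * ⁅a, r⁆ by
        simp only [commutatorElement_def]; group]
      exact mul_mem (hconjW1 a haH _ ih) (ha1 r hr)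
  have ht2 : ∀ u ∈ w1Of 3 E, t * u * t⁻¹ = u⁻¹ := by
    have h : ∀ n : ℕ, ∀ u ∈ w1Of 3 E, a ^ (2 * n + 1) * u * (a ^ (2 * n + 1))⁻¹ = u⁻¹ := by
      intro n
      induction n with
      | zero => intro u hu; rw [mul_zero, zero_add, pow_one]; exact ha2 u hu
      | succ n ih =>
        intro u hu
        have hu' := ha2 u⁻¹ (inv_mem hu)
        rw [inv_inv] at hu'
        calc a ^ (2 * (n + 1) + 1) * u * (a ^ (2 * (n + 1) + 1))⁻¹
            = a * (a * (a ^ (2 * n + 1) * u * (a ^ (2 * n + 1))⁻¹) * a⁻¹) * a⁻¹ := by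
              rw [show 2 * (n + 1) + 1 = (2 * n + 1) + 1 + 1 by ring, pow_succ', pow_succ']; group
          _ = u⁻¹ := by rw [ih u hu, hu', ha2 u hu]
    obtain ⟨n, hn⟩ : Odd (3 ^ j) := Odd.pow (by decide)
    intro u hu
    rw [ht, hn]
    exact h n u hu
  set C0 := qOf 3 E ⊓ centralizer ({t} : Set G) with hC0
  have memC : ∀ {c}, c ∈ C0 ↔ c ∈ qOf 3 E ∧ Commute t c := fun {c} =>
    ⟨fun h => ⟨(mem_inf.1 h).1, mem_centralizer_iff.1 (mem_inf.1 h).2 t rfl⟩,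
      fun h => mem_inf.2 ⟨h.1, mem_centralizer_iff.2 fun y hy => by rw [Set.mem_singleton_iff.1 hy, h.2.eq]⟩⟩
  have hW1Q : w1Of 3 E ≤ qOf 3 E := hW1W.trans (wOf_le_qOf E)
  have hsplit : ∀ r ∈ qOf 3 E, ∃ m ∈ w1Of 3 E, ∃ c ∈ C0, r = m * c := by
    intro r hr
    set m := ⁅t, r⁆ with hm
    have hmU : m ∈ w1Of 3 E := ht1 r (S.top hr)
    have h3 : m ^ 3 = 1 := wOf_pow E (hW1W hmU)
    refine ⟨m, hmU, m * m * r, memC.2 ⟨mul_mem (mul_mem (hW1Q hmU) (hW1Q hmU)) hr, ?_⟩, ?_⟩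
    · refine mul_inv_eq_iff_eq_mul.1 ?_
      calc t * (m * m * r) * t⁻¹ = (t * m * t⁻¹) * (t * m * t⁻¹) * (t * r * t⁻¹) := by group
        _ = m⁻¹ * m⁻¹ * (m * r) := by rw [ht2 m hmU, hm, commutatorElement_def]; group
        _ = m⁻¹ * r := by group
        _ = m * m * r := by rw [inv_eq_mul_self h3]
    · rw [← inv_eq_mul_self (u := m) h3, mul_inv_cancel_left]
  have hZC : zOf 3 E ≤ C0 := by
    rw [← S.X.comm, commutator_le]
    intro x hx y hy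
    obtain ⟨x1, hx1, x2, hx2, rfl⟩ := hsplit x hx
    obtain ⟨y1, hy1, y2, hy2, rfl⟩ := hsplit y hy
    have h1 : ∀ {u v : G}, u ∈ w1Of 3 E → v ∈ qOf 3 E → ⁅u, v⁆ = 1 := fun hu hv => S.wq hv (hW1W hu)
    have h2 : ⁅x1 * x2, y1 * y2⁆ = ⁅x2, y2⁆ := by
      rw [S.qq_mul_left (hW1Q hx1) (memC.1 hx2).1 (mul_mem (hW1Q hy1) (memC.1 hy2).1),
        h1 hx1 (mul_mem (hW1Q hy1) (memC.1 hy2).1), one_mul, ← commutatorElement_inv,
        S.qq_mul_left (hW1Q hy1) (memC.1 hy2).1 (memC.1 hx2).1, h1 hy1 (memC.1 hx2).1, one_mul,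
        commutatorElement_inv]
    rw [h2, commutatorElement_def]
    exact mul_mem (mul_mem (mul_mem hx2 hy2) (inv_mem hx2)) (inv_mem hy2)
  refine exc_split_false S.hG hE S.X (C := C0) inf_le_left hsplit (fun w hw => ?_) fun b hb c hc => ?_
  · obtain ⟨hwC, hwW⟩ := mem_inf.1 hw
    obtain ⟨x, hx, z0, hz0, rfl⟩ := decompose hE hwW
    have hxC : x ∈ C0 := by simpa using mul_mem hwC (inv_mem (hZC hz0))
    have h1 := ht2 x hx
    rw [(memC.1 hxC).2.eq, mul_inv_cancel_right] at h1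
    rw [eq_one_of_sq (wOf_pow E (hW1W hx)) (by nth_rw 2 [h1]; rw [mul_inv_cancel]), one_mul]
    exact hz0
  · obtain ⟨hcQ, hct⟩ := memC.1 hc
    have hbE : b ∈ normalizer (E : Set G) := Cfsg.Lib.BlockBasic.baumann_le_normalizer S.X.hEB hb
    have hbH : b ∈ hOf 3 E := normalizer_le_hOf hE hbE
    have hyQ : b * c * b⁻¹ ∈ qOf 3 E := conj_qOf hbE hcQ
    set t1 := b * t * b⁻¹ with ht1d
    have ht1H : t1 ∈ hOf 3 E := mul_mem (mul_mem hbH htH) (inv_mem hbH)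
    have htinv : t⁻¹ = t := inv_eq_of_mul_eq_one_right htt
    have ht11 : t1 * t1 = 1 := by rw [ht1d, show b * t * b⁻¹ * (b * t * b⁻¹) = b * (t * t) * b⁻¹ by group, htt]; group
    set d := t * t1 with hd
    have hdK : d ∈ Kd := by
      refine ⟨mul_mem htH ht1H, fun u hu => mul_inv_eq_iff_eq_mul.1 ?_, fun r hr => ?_⟩
      · have hu' : b⁻¹ * u * b⁻¹⁻¹ ∈ w1Of 3 E := hconjW1 _ (inv_mem hbH) u hu
        calc d * u * d⁻¹ = t * (b * (t * (b⁻¹ * u * b⁻¹⁻¹) * t⁻¹) * b⁻¹) * t⁻¹ := by rw [hd, ht1d]; group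
          _ = t * (b * (b⁻¹ * u * b⁻¹⁻¹)⁻¹ * b⁻¹) * t⁻¹ := by rw [ht2 _ hu']
          _ = t * u⁻¹ * t⁻¹ := by group
          _ = u := by rw [ht2 _ (inv_mem hu), inv_inv]
      · rw [show ⁅d, r⁆ = t * (b * ⁅t, b⁻¹ * r * b⁻¹⁻¹⁆ * b⁻¹) * t⁻¹ * ⁅t, r⁆ by
          rw [hd, ht1d]; simp only [commutatorElement_def]; group]
        exact mul_mem (hconjW1 t htH _ (hconjW1 b hbH _ (ht1 _ (conj_rOf (inv_mem hbH) hr)))) (ht1 r hr)
    have hdR := hKd hdK
    have hd2 : d⁻¹ * d⁻¹ ∈ w1Of 3 E := by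
      have e : d⁻¹ * d⁻¹ = ⁅t, d⁆ := by
        have e1 : d⁻¹ = t1 * t := by rw [hd, _root_.mul_inv_rev, htinv, inv_eq_of_mul_eq_one_right ht11]
        rw [commutatorElement_def, htinv]
        calc d⁻¹ * d⁻¹ = t1 * t * d⁻¹ := by rw [← e1]
          _ = t * d * t * d⁻¹ := by rw [hd, ← mul_assoc t t t1, htt, one_mul]
      rw [e]; exact ht1 d hdR
    have hdW1 : d ∈ w1Of 3 E := by
      have h2 := mul_mem (inv_mem hd2) (inv_mem hd2)
      have h6 : (d⁻¹ * d⁻¹) ^ 3 = 1 := wOf_pow E (hW1W hd2)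
      have h6' : d ^ 6 = 1 := by
        rw [← inv_eq_one, ← h6]; group
      obtain ⟨k, hk⟩ := pow_of_pgroup isPGroup_rOf hdR
      have h3 : d ^ 3 = 1 := by
        have hg := pow_gcd_eq_one.2 ⟨h6', hk⟩
        have hdvd : Nat.gcd 6 (3 ^ k) ∣ 3 := by
          have hc : Nat.Coprime (Nat.gcd 6 (3 ^ k)) 2 :=
            Nat.Coprime.coprime_dvd_left (Nat.gcd_dvd_right _ _) ((by norm_num : Nat.Coprime 3 2).pow_left k)
          exact hc.dvd_of_dvd_mul_right (Nat.gcd_dvd_left 6 (3 ^ k) : _ ∣ 3 * 2)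
        obtain ⟨l, hl⟩ := hdvd
        rw [hl, pow_mul, hg, one_pow]
      have e : (d⁻¹ * d⁻¹)⁻¹ * (d⁻¹ * d⁻¹)⁻¹ = d := by
        calc (d⁻¹ * d⁻¹)⁻¹ * (d⁻¹ * d⁻¹)⁻¹ = d ^ 3 * d := by group
          _ = d := by rw [h3, one_mul]
      exact e ▸ h2
    refine memC.2 ⟨hyQ, ?_⟩
    have c1 : Commute t1 (b * c * b⁻¹) := hct.map (MulAut.conj b).toMonoidHom
    have c2 : Commute d (b * c * b⁻¹) := (S.w1_comm hdW1 (S.top hyQ)).symm
    have h := c2.mul_left c1.inv_left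
    rwa [hd, mul_inv_cancel_right] at h

end Cfsg.Lib.BlockNormal
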