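/-
Conjugates of an exceptional block under the centralizer of its module share its module.
-/
import Cfsg.Agent.BlockNormal.Exceptional

set_option autoImplicit false

namespace Cfsg.Lib.BlockNormal

set_option linter.style.haveILetI false
set_option linter.unusedSectionVars false

open Subgroup Matrix Cfsg.Lib.BlockPair
open scoped commutatorElement MatrixGroups

universe u

variable {G : Type u} [Group G] [Finite G] [Fact (Nat.Prime 3)] {E : Subgroup G} {K : Type} [Field K] [Fintype K]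
variable (S : Ex E K)
include S

theorem Ex.conj_top {c q : G} (hc : c ∈ centralizer (w1Of 3 E : Set G)) (hq : q ∈ qOf 3 E) :
    c * q * c⁻¹ ∈ rOf 3 E := conj_rOf (centralizer_le_hOf hc) (S.top hq)

/-- the block moves the conjugate of its top by central elements only, if the two tops commute modulo `[W, E]` -/
theorem Ex.orth_move {c : G} (hc : c ∈ centralizer (w1Of 3 E : Set G))
    (h : ∀ q ∈ qOf 3 E, ∀ q' ∈ qOf 3 E, ⁅q, c * q' * c⁻¹⁆ ∈ w1Of 3 E) {e q' : G} (he : e ∈ E)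
    (hq' : q' ∈ qOf 3 E) : ⁅e, c * q' * c⁻¹⁆ ∈ wOf 3 E := by
  have hE := S.isBlk
  set x := c * q' * c⁻¹ with hx
  have hxR : x ∈ rOf 3 E := S.conj_top hc hq'
  have hd : ⁅e, x⁆ ∈ qOf 3 E := comm_rOf S.hblk he hxR
  refine S.mem_wOf_of_comm hd fun u hu => ?_
  have hu' : e⁻¹ * u * e⁻¹⁻¹ ∈ qOf 3 E := conj_qOf (inv_mem (le_normalizer he)) hu
  have h1 : ⁅u, e * x * e⁻¹⁆ ∈ w1Of 3 E := by
    rw [show ⁅u, e * x * e⁻¹⁆ = e * ⁅e⁻¹ * u * e⁻¹⁻¹, x⁆ * e⁻¹ by simp only [commutatorElement_def]; group]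
    exact conj_w1_self hE (le_normalizer he) (h _ hu' q' hq')
  refine S.inf_bot ?_ (S.qq hu hd)
  have e1 : ⁅u, e * x * e⁻¹⁆ = ⁅u, ⁅e, x⁆⁆ * ⁅u, x⁆ := by
    calc ⁅u, e * x * e⁻¹⁆ = ⁅u, ⁅e, x⁆ * x⁆ := by rw [commutatorElement_def e x]; group
      _ = ⁅u, ⁅e, x⁆⁆ * (⁅e, x⁆ * ⁅u, x⁆ * ⁅e, x⁆⁻¹) := by simp only [commutatorElement_def]; group
      _ = ⁅u, ⁅e, x⁆⁆ * ⁅u, x⁆ := by
        rw [(S.w1_comm (h u hu q' hq') (S.top hd)).eq, mul_inv_cancel_right]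
  rw [e1] at h1
  have := mul_mem h1 (inv_mem (h u hu q' hq'))
  rwa [mul_inv_cancel_right] at this

theorem Ex.orth_fix {c : G} (hc : c ∈ centralizer (w1Of 3 E : Set G))
    (h : ∀ q ∈ qOf 3 E, ∀ q' ∈ qOf 3 E, ⁅q, c * q' * c⁻¹⁆ ∈ w1Of 3 E) {e y : G} (he : e ∈ E)
    (hy : y ∈ zOf 3 E) : Commute e (c * y * c⁻¹) := by
  suffices hh : (zOf 3 E).map (MulAut.conj c).toMonoidHom ≤ centralizer ({e} : Set G) from
    mem_centralizer_iff.1 (hh ⟨y, hy, rfl⟩) e rfl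
  rw [← S.X.comm, map_commutator, commutator_le]
  rintro _ ⟨a, ha, rfl⟩ _ ⟨b, hb, rfl⟩
  refine mem_centralizer_iff.2 fun x hx => ?_
  rw [Set.mem_singleton_iff.1 hx]
  show e * ⁅c * a * c⁻¹, c * b * c⁻¹⁆ = ⁅c * a * c⁻¹, c * b * c⁻¹⁆ * e
  refine mul_inv_eq_iff_eq_mul.1 ?_
  set A := c * a * c⁻¹
  set B := c * b * c⁻¹
  have hA : A ∈ rOf 3 E := S.conj_top hc ha
  have hB : B ∈ rOf 3 E := S.conj_top hc hb
  have wa := S.orth_move hc h he ha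
  have wb := S.orth_move hc h he hb
  have hR : ⁅e, B⁆ * B ∈ rOf 3 E := mul_mem (S.top (wOf_le_qOf E wb)) hB
  calc e * ⁅A, B⁆ * e⁻¹ = ⁅⁅e, A⁆ * A, ⁅e, B⁆ * B⁆ := by simp only [commutatorElement_def]; group
    _ = ⁅e, A⁆ * (A * (⁅e, B⁆ * B) * A⁻¹) * ⁅e, A⁆⁻¹ * (⁅e, B⁆ * B)⁻¹ := by
      simp only [commutatorElement_def]; group
    _ = (A * ⁅e, B⁆) * B * A⁻¹ * B⁻¹ * ⁅e, B⁆⁻¹ := by
      rw [← (S.w_comm wa (mul_mem (mul_mem hA hR) (inv_mem hA))).eq, mul_inv_cancel_right]; group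
    _ = ⁅A, B⁆ := by
      rw [(S.w_comm wb hA).eq, show ⁅e, B⁆ * A * B * A⁻¹ * B⁻¹ * ⁅e, B⁆⁻¹ = ⁅e, B⁆ * ⁅A, B⁆ * ⁅e, B⁆⁻¹ by
        rw [commutatorElement_def A B]; group,
        ← (S.w_comm wb (show ⁅A, B⁆ ∈ rOf 3 E by
          rw [commutatorElement_def]; exact mul_mem (mul_mem (mul_mem hA hB) (inv_mem hA)) (inv_mem hB))).eq,
        mul_inv_cancel_right]

/-- two tops never commute modulo `[W, E]` -/
theorem Ex.orth_false {c : G} (hc : c ∈ centralizer (w1Of 3 E : Set G))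
    (h : ∀ q ∈ qOf 3 E, ∀ q' ∈ qOf 3 E, ⁅q, c * q' * c⁻¹⁆ ∈ w1Of 3 E) : False := by
  have hE := S.isBlk
  have hcH := centralizer_le_hOf hc
  have hsym : ∀ q ∈ qOf 3 E, ∀ q' ∈ qOf 3 E, ⁅q, c⁻¹ * q' * c⁻¹⁻¹⁆ ∈ w1Of 3 E := by
    intro q hq q' hq'
    have h1 := Cfsg.Lib.Large.conj_mem' _ (inv_mem hcH) (inv_mem (h q' hq' q hq))
    rw [commutatorElement_inv] at h1
    have e : c⁻¹ * ⁅c * q * c⁻¹, q'⁆ * c⁻¹⁻¹ = ⁅q, c⁻¹ * q' * c⁻¹⁻¹⁆ := by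
      simp only [commutatorElement_def]; group
    exact e ▸ h1
  have hcfix : ∀ u ∈ w1Of 3 E, c * u * c⁻¹ = u := fun u hu => by
    rw [← mem_centralizer_iff.1 hc u hu, mul_inv_cancel_right]
  have hcfix' : ∀ u ∈ w1Of 3 E, c⁻¹ * u * c = u := fun u hu => by
    rw [mul_assoc, mem_centralizer_iff.1 hc u hu, inv_mul_cancel_left]
  -- two elements whose commutator inverts the module
  obtain ⟨gi, gj, hgi, hgj, hgc⟩ : ∃ gi gj, gi ∈ S.X.D.ρ.range ∧ gj ∈ S.X.D.ρ.range ∧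
      ⁅gi, gj⁆ = (-1 : SL(2, K)) := by
    have h30 := S.three_zero
    let j : SL(2, K) := ⟨!![1, 1; 1, -1], by simp [det_fin_two]; linear_combination -h30⟩
    have hmem : (Line.wel : SL(2, K)) ∈ commutator SL(2, K) ∧ j ∈ commutator SL(2, K) := by
      by_cases h4 : 4 ≤ Fintype.card K
      · rw [Cfsg.Lib.Known.sl2_commutator_eq_top K h4]; exact ⟨mem_top _, mem_top _⟩
      · obtain ⟨hw, j', hj', hjr⟩ := S.X.wel_j ((S.X.D.small_card h4).2)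
        rw [S.X.range'] at hw hjr
        exact ⟨hw, (Subtype.ext hj' : j' = j) ▸ hjr⟩
    refine ⟨Line.wel, j, by rw [S.X.D.range]; exact hmem.1, by rw [S.X.D.range]; exact hmem.2, ?_⟩
    rw [commutatorElement_def, mul_inv_eq_iff_eq_mul, mul_inv_eq_iff_eq_mul]
    apply Subtype.ext
    show !![(0 : K), -1; 1, 0] * !![1, 1; 1, -1] =
      (-(1 : Matrix (Fin 2) (Fin 2) K)) * !![1, 1; 1, -1] * !![0, -1; 1, 0]
    ext a b
    fin_cases a <;> fin_cases b <;> simp [Matrix.mul_apply, Fin.sum_univ_two]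
  obtain ⟨⟨i, hiE⟩, hi⟩ := hgi
  obtain ⟨⟨j, hjE⟩, hj⟩ := hgj
  set y := c * j * c⁻¹ with hy
  have hiH : i ∈ hOf 3 E := normalizer_le_hOf hE (le_normalizer hiE)
  have hjH : j ∈ hOf 3 E := normalizer_le_hOf hE (le_normalizer hjE)
  have hyH : y ∈ hOf 3 E := mul_mem (mul_mem hcH hjH) (inv_mem hcH)
  set s := ⁅i, y⁆ with hs
  have hsH : s ∈ hOf 3 E := mul_mem (mul_mem (mul_mem hiH hyH) (inv_mem hiH)) (inv_mem hyH)
  -- action on the module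
  have hW1c : ∀ {g : G}, g ∈ hOf 3 E → ∀ u ∈ w1Of 3 E, g * u * g⁻¹ ∈ w1Of 3 E := fun hg u hu =>
    Cfsg.Lib.Large.conj_mem' _ hg hu
  have hyact : ∀ u ∈ w1Of 3 E, y * u * y⁻¹ = j * u * j⁻¹ := by
    intro u hu
    calc y * u * y⁻¹ = c * (j * (c⁻¹ * u * c) * j⁻¹) * c⁻¹ := by rw [hy]; group
      _ = j * u * j⁻¹ := by rw [hcfix' u hu, hcfix _ (hW1c hjH u hu)]
  have hinv : ∀ u ∈ w1Of 3 E, s * u * s⁻¹ = u⁻¹ := by
    intro u hu
    have hk : S.X.D.ρ ⟨⁅i, j⁆, mul_mem (mul_mem (mul_mem hiE hjE) (inv_mem hiE)) (inv_mem hjE)⟩ = -1 := by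
      rw [show (⟨⁅i, j⁆, _⟩ : ↥E) = ⁅(⟨i, hiE⟩ : ↥E), ⟨j, hjE⟩⁆ from rfl, map_commutatorElement, hi, hj, hgc]
    rw [← S.X.D.neg_one_inverts hE (by norm_num) _ hk u hu]
    have u1 : y⁻¹ * u * y⁻¹⁻¹ = j⁻¹ * u * j⁻¹⁻¹ := by
      have h2 := hyact _ (hW1c (inv_mem hjH) u hu)
      calc y⁻¹ * u * y⁻¹⁻¹ = y⁻¹ * (j * (j⁻¹ * u * j⁻¹⁻¹) * j⁻¹) * y⁻¹⁻¹ := by group
        _ = y⁻¹ * (y * (j⁻¹ * u * j⁻¹⁻¹) * y⁻¹) * y⁻¹⁻¹ := by rw [h2]
        _ = _ := by group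
    calc s * u * s⁻¹ = i * (y * (i⁻¹ * (y⁻¹ * u * y⁻¹⁻¹) * i⁻¹⁻¹) * y⁻¹) * i⁻¹ := by
          rw [hs, commutatorElement_def]; group
      _ = i * (j * (i⁻¹ * (j⁻¹ * u * j⁻¹⁻¹) * i⁻¹⁻¹) * j⁻¹) * i⁻¹ := by
          rw [u1, hyact _ (hW1c (inv_mem hiH) _ (hW1c (inv_mem hjH) u hu))]
      _ = ⁅i, j⁆ * u * ⁅i, j⁆⁻¹ := by rw [commutatorElement_def]; group
  -- the central subgroup
  set Z' := (zOf 3 E).map (MulAut.conj c).toMonoidHom with hZ'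
  set M := wOf 3 E ⊔ Z' with hM
  have hMR : M ≤ rOf 3 E := sup_le ((wOf_le_qOf E).trans S.top) (by
    rintro _ ⟨x, hx, rfl⟩; exact S.conj_top hc (wOf_le_qOf E (mem_inf.1 hx).1))
  have hMc : ∀ m ∈ M, ∀ r ∈ rOf 3 E, Commute r m := by
    suffices hh : M ≤ centralizer (rOf 3 E : Set G) from fun m hm r hr => mem_centralizer_iff.1 (hh hm) r hr
    refine sup_le (fun w hw => mem_centralizer_iff.2 fun r hr => (S.w_comm hw hr).eq) ?_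
    rintro _ ⟨x, hx, rfl⟩
    refine mem_centralizer_iff.2 fun r hr => ?_
    have h1 := (S.z_comm hx (conj_rOf (inv_mem hcH) hr)).map (MulAut.conj c).toMonoidHom
    simpa [mul_assoc] using h1.eq
  have hdec : ∀ m ∈ M, ∃ w ∈ wOf 3 E, ∃ x ∈ zOf 3 E, m = w * (c * x * c⁻¹) := by
    intro m hm
    rw [hM, ← SetLike.mem_coe] at hm
    rw [coe_mul_of_left_le_normalizer_right _ _ (fun w hw => Cfsg.Lib.Large.mem_normalizer_of_le _ fun x hx => by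
      rwa [← (hMc w (mem_sup_left hw) x (hMR (mem_sup_right hx))).eq, mul_inv_cancel_right])] at hm
    obtain ⟨w, hw, x', ⟨x, hx, rfl⟩, rfl⟩ := Set.mem_mul.1 hm
    exact ⟨w, hw, x, hx, rfl⟩
  have hMp : ∀ m ∈ M, m ^ 3 = 1 := by
    intro m hm
    obtain ⟨w, hw, x, hx, rfl⟩ := hdec m hm
    have hxR : c * x * c⁻¹ ∈ rOf 3 E := S.conj_top hc (wOf_le_qOf E (mem_inf.1 hx).1)
    rw [(hMc w (mem_sup_left hw) _ hxR).symm.mul_pow, conj_pow, wOf_pow E hw, wOf_pow E (mem_inf.1 hx).1]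
    group
  have hfixZ : ∀ {e : G}, e ∈ E → ∀ x ∈ zOf 3 E, Commute e x := fun he x hx =>
    mem_centralizer_iff.1 (mem_inf.1 hx).2 _ he
  have hsfix : ∀ x ∈ zOf 3 E, Commute s x ∧ Commute s (c * x * c⁻¹) := by
    intro x hx
    have i1 := hfixZ hiE x hx
    have i2 := S.orth_fix hc h hiE hx
    have y2 : Commute y (c * x * c⁻¹) := (hfixZ hjE x hx).map (MulAut.conj c).toMonoidHom
    have y1 : Commute y x := by
      have h1 := (S.orth_fix (inv_mem hc) hsym hjE hx).map (MulAut.conj c).toMonoidHom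
      rw [hy]
      simpa [mul_assoc] using h1
    exact ⟨((i1.mul_left y1).mul_left i1.inv_left).mul_left y1.inv_left,
      ((i2.mul_left y2).mul_left i2.inv_left).mul_left y2.inv_left⟩
  have h2 : ∀ m ∈ M, ⁅s, m⁆ ∈ w1Of 3 E := by
    intro m hm
    obtain ⟨w, hw, x, hx, rfl⟩ := hdec m hm
    obtain ⟨u, hu, x0, hx0, rfl⟩ := decompose hE hw
    show ⁅s, u * x0 * (c * x * c⁻¹)⁆ ∈ _
    have e : ⁅s, u * x0 * (c * x * c⁻¹)⁆ = (s * u * s⁻¹) * u⁻¹ := by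
      calc ⁅s, u * x0 * (c * x * c⁻¹)⁆
          = (s * u * s⁻¹) * (s * x0 * s⁻¹) * (s * (c * x * c⁻¹) * s⁻¹) * (u * x0 * (c * x * c⁻¹))⁻¹ := by
            rw [commutatorElement_def]; group
        _ = _ := by
          rw [(hsfix x0 hx0).1.eq, (hsfix x hx).2.eq, mul_inv_cancel_right, mul_inv_cancel_right]; group
    rw [e]
    exact mul_mem (hW1c hsH u hu) (inv_mem hu)
  refine S.no_reflection hsH hMp (fun r hr => ?_) h2 hinv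
  -- both composites agree modulo `M`
  have hQc : ∀ r' ∈ rOf 3 E, ∃ q ∈ qOf 3 E, y * r' * y⁻¹ = (c * q * c⁻¹) * r' := by
    intro r' hr'
    refine ⟨⁅j, c⁻¹ * r' * c⁻¹⁻¹⁆, comm_rOf S.hblk hjE (conj_rOf (inv_mem hcH) hr'), ?_⟩
    rw [hy]; simp only [commutatorElement_def]; group
  set r0 := i⁻¹ * (y⁻¹ * r * y⁻¹⁻¹) * i⁻¹⁻¹ with hr0
  have hr0R : r0 ∈ rOf 3 E := conj_rOf (inv_mem hiH) (conj_rOf (inv_mem hyH) hr)
  obtain ⟨q', hq', e1⟩ := hQc r0 hr0R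
  set q := ⁅i, r0⁆ with hq
  have hqQ : q ∈ qOf 3 E := comm_rOf S.hblk hiE hr0R
  have e2 : i * r0 * i⁻¹ = q * r0 := by rw [hq, commutatorElement_def]; group
  set x' := c * q' * c⁻¹ with hx'
  have hxR : x' ∈ rOf 3 E := S.conj_top hc hq'
  have hm1 : ⁅i, x'⁆ ∈ M := mem_sup_left (S.orth_move hc h hiE hq')
  have hm2 : ⁅y, q⁆ ∈ M := by
    have h1 := S.orth_move (inv_mem hc) hsym hjE hqQ
    obtain ⟨u, hu, x, hx, e⟩ := decompose hE h1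
    have e3 : ⁅y, q⁆ = c * ⁅j, c⁻¹ * q * c⁻¹⁻¹⁆ * c⁻¹ := by rw [hy]; simp only [commutatorElement_def]; group
    rw [e3, e, show c * (u * x) * c⁻¹ = (c * u * c⁻¹) * (c * x * c⁻¹) by group, hcfix u hu]
    exact mul_mem (mem_sup_left (w1_le_wOf hE hu)) (mem_sup_right ⟨x, hx, rfl⟩)
  have hm3 : ⁅q, x'⁆ ∈ M := mem_sup_left (w1_le_wOf hE (h q hqQ q' hq'))
  have e3 : r = (y * q * y⁻¹) * (x' * r0) := by
    calc r = y * (i * r0 * i⁻¹) * y⁻¹ := by rw [hr0]; group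
      _ = (y * q * y⁻¹) * (y * r0 * y⁻¹) := by rw [e2]; group
      _ = _ := by rw [e1]
  have e4 : s * r * s⁻¹ = (i * x' * i⁻¹) * (q * r0) := by
    calc s * r * s⁻¹ = i * (y * r0 * y⁻¹) * i⁻¹ := by rw [hr0, hs, commutatorElement_def]; group
      _ = (i * x' * i⁻¹) * (i * r0 * i⁻¹) := by rw [e1]; group
      _ = _ := by rw [e2]
  rw [commutatorElement_def, e4, show i * x' * i⁻¹ = ⁅i, x'⁆ * x' by rw [commutatorElement_def]; group, e3,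
    show y * q * y⁻¹ = ⁅y, q⁆ * q by rw [commutatorElement_def]; group]
  have e5 : ⁅i, x'⁆ * x' * (q * r0) * (⁅y, q⁆ * q * (x' * r0))⁻¹ = ⁅i, x'⁆ * ⁅q, x'⁆⁻¹ * ⁅y, q⁆⁻¹ := by
    simp only [commutatorElement_def]; group
  rw [e5]
  exact mul_mem (mul_mem hm1 (inv_mem hm3)) (inv_mem hm2)

/-- the centralizer of `[W, E]` normalizes `W` -/
theorem Ex.conj_w {c w : G} (hc : c ∈ centralizer (w1Of 3 E : Set G)) (hw : w ∈ wOf 3 E) :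
    c * w * c⁻¹ ∈ wOf 3 E := by
  have hE := S.isBlk
  by_contra hcon
  have hne : ¬ ∀ q ∈ qOf 3 E, ∀ q' ∈ qOf 3 E, ⁅q, c * q' * c⁻¹⁆ ∈ w1Of 3 E := fun h => S.orth_false hc h
  push Not at hne
  obtain ⟨q, hq, q', hq', hne⟩ := hne
  set x := c * q' * c⁻¹ with hx
  have hxR : x ∈ rOf 3 E := S.conj_top hc hq'
  set q0 := ⁅S.z, x⁆ with hq0
  have hq0Q : q0 ∈ qOf 3 E := comm_rOf S.hblk S.zE hxR
  -- the pairing with `x` is the pairing with `q0`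
  have key : ∀ u ∈ qOf 3 E, S.nu ⁅u, x⁆ = S.nu ⁅u, q0⁆ := by
    intro u hu
    have hw1 : ⁅u, x⁆ ∈ wOf 3 E := S.qr hu hxR
    have hz : ∀ y ∈ wOf 3 E, S.nu (S.z * y * S.z⁻¹) = S.nu y := by
      intro y hy
      obtain ⟨a, ha, x0, hx0, rfl⟩ := decompose hE hy
      have hcz : Commute S.z x0 := mem_centralizer_iff.1 (mem_inf.1 hx0).2 _ S.zE
      rw [show S.z * (a * x0) * S.z⁻¹ = (S.z * a * S.z⁻¹) * (S.z * x0 * S.z⁻¹) by group, S.z_w1 ha, hcz.eq,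
        mul_inv_cancel_right, S.nu_decompose (inv_mem ha) hx0, S.nu_decompose ha hx0]
    set u1 := S.z * u * S.z⁻¹ with hu1
    have hu1Q : u1 ∈ qOf 3 E := conj_qOf (le_normalizer S.zE) hu
    have h1 : ⁅u1, q0 * x⁆ = S.z * ⁅u, x⁆ * S.z⁻¹ := by
      rw [hu1, hq0]; simp only [commutatorElement_def]; group
    have e : ⁅u1, q0 * x⁆ = ⁅u1, q0⁆ * ⁅u1, x⁆ := by
      rw [show ⁅u1, q0 * x⁆ = ⁅u1, q0⁆ * (q0 * ⁅u1, x⁆ * q0⁻¹) by simp only [commutatorElement_def]; group,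
        (S.w_comm (S.qr hu1Q hxR) (S.top hq0Q)).eq, mul_inv_cancel_right]
    have hd : u1 * u ∈ wOf 3 E := by
      refine (S.crd_eq_zero (⟨u1, hu1Q⟩ * ⟨u, hu⟩)).1 ?_
      rw [S.X.crd_mul]
      have h2 : S.X.crd ⟨u1, hu1Q⟩ = -S.X.crd ⟨u, hu⟩ := S.crd_z ⟨u, hu⟩
      rw [h2, neg_add_cancel]
    have hneg : ∀ r ∈ rOf 3 E, S.nu ⁅u1, r⁆ * S.nu ⁅u, r⁆ = 1 := by
      intro r hr
      rw [← (S.nu_mul_left (S.top hu1Q) (S.qr hu1Q hr) (S.qr hu hr)).2,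
        commutatorElement_eq_one_iff_mul_comm.2 (S.w_comm hd hr).eq.symm, S.nu_one]
    have h3 : S.nu ⁅u1, q0⁆ * S.nu ⁅u1, x⁆ = S.nu ⁅u, x⁆ := by
      rw [← S.nu_mul (S.qr hu1Q (S.top hq0Q)) (S.qr hu1Q hxR), ← e, h1, hz _ hw1]
    rw [eq_inv_of_mul_eq_one_left (hneg _ (S.top hq0Q)), eq_inv_of_mul_eq_one_left (hneg _ hxR)] at h3
    set A := S.nu ⁅u, q0⁆
    set B := S.nu ⁅u, x⁆
    have hA : A ^ 3 = 1 := wOf_pow E (mem_inf.1 (S.nu_mem (S.qr hu (S.top hq0Q)))).1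
    have hB : B ^ 3 = 1 := wOf_pow E (mem_inf.1 (S.nu_mem hw1)).1
    calc B = (B * B)⁻¹ := by rw [← inv_eq_mul_self hB, inv_inv]
      _ = (A⁻¹ * B⁻¹ * B)⁻¹ := by rw [h3]
      _ = A := by group
  have hq0W : q0 ∉ wOf 3 E := by
    intro h0
    refine hne ((S.nu_eq_one (S.qr hq hxR)).1 ?_)
    rw [key q hq, commutatorElement_eq_one_iff_mul_comm.2 (S.w_comm h0 (S.top hq)).eq, S.nu_one]
  have hcd : S.X.crd ⟨q0, hq0Q⟩ ≠ 0 := fun h0 => hq0W ((S.crd_eq_zero _).1 h0)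
  set W' := (wOf 3 E).map (MulAut.conj c).toMonoidHom with hW'
  have hW1W' : w1Of 3 E ≤ W' := fun u hu => ⟨u, w1_le_wOf hE hu, by
    show c * u * c⁻¹ = u
    rw [← mem_centralizer_iff.1 hc u hu, mul_inv_cancel_right]⟩
  have hZW' : zOf 3 E ≤ W' := by
    intro y hy
    obtain ⟨t, ht⟩ := S.phi_surj hy
    obtain ⟨v, hv⟩ : ∃ v, det2 v (S.X.crd ⟨q0, hq0Q⟩) = t := by
      set w := S.X.crd ⟨q0, hq0Q⟩
      by_cases h1 : w 1 = 0
      · have h0 : w 0 ≠ 0 := fun h0 => hcd (funext fun i => by fin_cases i <;> assumption)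
        exact ⟨![0, -t / w 0], by simp [det2, div_mul_cancel₀ _ h0]⟩
      · exact ⟨![t / w 1, 0], by simp [det2, div_mul_cancel₀ _ h1]⟩
    obtain ⟨u, rfl⟩ := S.X.exists_crd v
    have hu : ⁅(u : G), x⁆ ∈ wOf 3 E := S.qr u.2 hxR
    have hnu : S.nu ⁅(u : G), x⁆ = y := by
      rw [key u u.2, S.nu_z (S.qq u.2 hq0Q), S.comm_eq u ⟨q0, hq0Q⟩, hv, ht]
    obtain ⟨a, ha, z0, hz0, e⟩ := decompose hE hu
    rw [e, S.nu_decompose ha hz0] at hnu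
    subst hnu
    have hin : ⁅(u : G), x⁆ ∈ W' := by
      refine ⟨⁅c⁻¹ * u * c⁻¹⁻¹, q'⁆, ?_, ?_⟩
      · have := inv_mem (S.qr hq' (conj_rOf (inv_mem (centralizer_le_hOf hc)) (S.top u.2)))
        rwa [commutatorElement_inv] at this
      · show c * ⁅c⁻¹ * (u : G) * c⁻¹⁻¹, q'⁆ * c⁻¹ = _
        rw [hx]; simp only [commutatorElement_def]; group
    have h4 := mul_mem (inv_mem (hW1W' ha)) hin
    rwa [e, inv_mul_cancel_left] at h4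
  have hle : wOf 3 E ≤ W' := by
    rw [← (wOf_eq_sup hE).1]
    exact sup_le hW1W' hZW'
  have heq : wOf 3 E = W' := Subgroup.eq_of_le_of_card_ge hle
    (Cfsg.Lib.Thompson.card_map_of_injOn (MulAut.conj c).injective.injOn).le
  exact hcon (heq.ge ⟨w, hw, rfl⟩)

end Cfsg.Lib.BlockNormal
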