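/-
Families of plane projections in a ring of characteristic three: if no two of them are orthogonal then all of
them differ from a given one by elements of a nilpotent algebra.
-/
import Mathlib.Algebra.Ring.Basic
import Mathlib.Tactic.Abel
import Mathlib.Tactic.NoncommRing

set_option autoImplicit false

namespace Cfsg.Lib.BlockNormal

variable {A : Type*} [Ring A] {ι : Type*}

/-- a family of projections, each with a group of corner units and scalar self-adjoint corner elements -/
structure PlaneSys (π : ι → A) (SA : A → Prop) (Γ : ι → A → A → Prop) : Prop where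
  three : ∀ x : A, x + x + x = 0
  idem : ∀ i, π i * π i = π i
  sa : ∀ i, SA (π i)
  sa_conj : ∀ a b, SA a → SA b → SA (a * b * a)
  orth : ∀ i j, π i * π j ≠ 0
  corner : ∀ i e e', Γ i e e' → π i * e = e ∧ e * π i = e ∧ π i * e' = e' ∧ e' * π i = e' ∧
    e * e' = π i ∧ e' * e = π i
  neg : ∀ i, Γ i (-π i) (-π i)
  closed : ∀ i e e' j, Γ i e e' → ∃ k, π k = (1 + (e - π i)) * π j * (1 + (e' - π i))
  scalar : ∀ i T, SA T → π i * T * π i = T → T = 0 ∨ T = π i ∨ ((∀ e e', Γ i e e' → T * e = e * T) ∧
    ∃ U, SA U ∧ π i * U * π i = U ∧ T * U = π i ∧ U * T = π i ∧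
      ∃ e e', Γ i e e' ∧ (π i - T) * (π i + π i - e - e') = U)
  quat : ∀ i, ∃ e f e' f', Γ i e e' ∧ Γ i f f' ∧ Γ i (e * f) (f' * e') ∧ e' * f' = -(f' * e')

variable {π : ι → A} {SA : A → Prop} {Γ : ι → A → A → Prop}

theorem PlaneSys.neg_two (S : PlaneSys π SA Γ) (x : A) : -x - x = x :=
  calc -x - x = x - (x + x + x) := by abel
    _ = x := by rw [S.three, sub_zero]

/-- conjugation of one projection by the reflection of another -/
theorem PlaneSys.refl_closed (S : PlaneSys π SA Γ) (i j : ι) :
    ∃ k, π k = (1 + π i) * π j * (1 + π i) := by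
  obtain ⟨k, hk⟩ := S.closed i _ _ j (S.neg i)
  rw [S.neg_two] at hk
  exact ⟨k, hk⟩

theorem PlaneSys.rect_ne_zero (S : PlaneSys π SA Γ) (i j : ι) : π i * π j * π i ≠ 0 := by
  intro hT
  obtain ⟨a, ha⟩ := S.refl_closed i j
  obtain ⟨b, hb⟩ := S.refl_closed j a
  obtain ⟨c, hc⟩ := S.refl_closed i b
  refine S.orth i c ?_
  have h1 : π i * (1 + π i) = π i + π i := by rw [mul_add, mul_one, S.idem]
  have h2 : π i * ((1 + π i) * (1 + π j) * (1 + π i) * π j) = 0 :=
    calc π i * ((1 + π i) * (1 + π j) * (1 + π i) * π j) = (π i * (1 + π i)) * (1 + π j) * (1 + π i) * π j := by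
          simp only [mul_assoc]
      _ = (π i + π i) * (1 + π j) * (1 + π i) * π j := by rw [h1]
      _ = (π i * π j + π i * (π j * π j) + π i * π i * π j + π i * π j * π i * π j)
            + (π i * π j + π i * (π j * π j) + π i * π i * π j + π i * π j * π i * π j) := by noncomm_ring
      _ = 0 := by rw [S.idem, S.idem, hT, zero_mul, add_zero, S.three, add_zero]
  rw [hc, hb, ha]
  calc π i * ((1 + π i) * ((1 + π j) * ((1 + π i) * π j * (1 + π i)) * (1 + π j)) * (1 + π i))
      = (π i * ((1 + π i) * (1 + π j) * (1 + π i) * π j)) * ((1 + π i) * (1 + π j) * (1 + π i)) := by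
        simp only [mul_assoc]
    _ = 0 := by rw [h2, zero_mul]

/-- the composite of two projections is the identity on the first plane -/
theorem PlaneSys.rect (S : PlaneSys π SA Γ) (i j : ι) : π i * π j * π i = π i := by
  have hT2 : π i * (π i * π j * π i) * π i = π i * π j * π i := by
    rw [show π i * (π i * π j * π i) * π i = (π i * π i) * π j * (π i * π i) by simp only [mul_assoc], S.idem]
  rcases S.scalar i _ (S.sa_conj _ _ (S.sa i) (S.sa j)) hT2 with h | h | ⟨hcomm, U, hU, hUc, hTU, hUT, e, e', he, hs⟩
  · exact absurd h (S.rect_ne_zero i j)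
  · exact h
  exfalso
  set T := π i * π j * π i with hT
  obtain ⟨k, hk⟩ := S.closed i e e' j he
  obtain ⟨he1, he2, he3, he4, he5, -⟩ := S.corner i e e' he
  set a := e - π i with ha
  set b := e' - π i with hb
  have hai : a * π i = a := by rw [ha, sub_mul, he2, S.idem]
  have hbi : π i * b = b := by rw [hb, mul_sub, he3, S.idem]
  have hTi : T * π i = T := by rw [hT, mul_assoc (π i * π j) (π i) (π i), S.idem]
  have hiT : π i * T = T := by rw [hT, ← mul_assoc, ← mul_assoc, S.idem]
  have hTa : a * T = T * a := by rw [ha, sub_mul, mul_sub, hcomm e e' he, hTi, hiT]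
  have hab : a * b = π i + π i - e - e' := by
    rw [ha, hb, sub_mul, mul_sub, mul_sub, he5, he2, he3, S.idem]
    abel
  set s := π i + π i - e - e' with hsdef
  have hsum : a + b = -s := by rw [ha, hb, hsdef]; abel
  have hsi : π i * s = s := by
    rw [hsdef, mul_sub, mul_sub, mul_add, S.idem, he1, he3]
  have h3 : π j * π k * π j = π j - π j * U * π j := by
    calc π j * π k * π j = π j * π j * π j + π j * π j * b * π j + π j * a * (π j * π j) + π j * a * π j * b * π j := by
          rw [hk]; noncomm_ring
      _ = π j + π j * (a + b) * π j + π j * (a * π i) * π j * (π i * b) * π j := by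
          rw [hai, hbi, S.idem, S.idem]; noncomm_ring
      _ = π j + π j * (a + b) * π j + π j * (a * T) * b * π j := by rw [hT]; simp only [mul_assoc]
      _ = π j + π j * (-s) * π j + π j * T * (a * b) * π j := by rw [hsum, hTa]; simp only [mul_assoc]
      _ = π j - π j * (π i * s - T * s) * π j := by rw [hsi, hab]; noncomm_ring
      _ = π j - π j * U * π j := by rw [← sub_mul, hs]
  have hUi : U * π i = U := by rw [← hUc, mul_assoc (π i * U) (π i) (π i), S.idem]
  have hiU : π i * U = U := by rw [← hUc, ← mul_assoc, ← mul_assoc, S.idem]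
  set P := π j * U * π j with hP
  have hPP : P * P = P :=
    calc P * P = π j * U * (π j * π j) * U * π j := by rw [hP]; simp only [mul_assoc]
      _ = π j * (U * π i) * π j * (π i * U) * π j := by rw [S.idem, hUi, hiU]
      _ = π j * (U * T * U) * π j := by rw [hT]; simp only [mul_assoc]
      _ = P := by rw [hUT, hiU]
  have hPc : π j * P * π j = P := by
    rw [hP, show π j * (π j * U * π j) * π j = (π j * π j) * U * (π j * π j) by simp only [mul_assoc], S.idem]
  have hP0 : P ≠ 0 := by
    intro h0
    have h : π i * P * π i = T :=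
      calc π i * P * π i = π i * π j * (π i * U * π i) * π j * π i := by rw [hUc, hP]; simp only [mul_assoc]
        _ = T * U * T := by rw [hT]; simp only [mul_assoc]
        _ = T := by rw [hTU, hiT]
    rw [h0, mul_zero, zero_mul] at h
    exact S.rect_ne_zero i j (hT.symm.trans h.symm)
  refine S.rect_ne_zero j k ?_
  rw [h3]
  rcases S.scalar j P (S.sa_conj _ _ (S.sa j) hU) hPc with h | h | ⟨-, U', -, -, hPU, -⟩
  · exact absurd h hP0
  · rw [h, sub_self]
  · have hPj : P * π j = P := by rw [hP, mul_assoc (π j * U) (π j) (π j), S.idem]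
    have h : P = π j :=
      calc P = P * π j := hPj.symm
        _ = P * (P * U') := by rw [hPU]
        _ = P * P * U' := (mul_assoc _ _ _).symm
        _ = π j := by rw [hPP, hPU]
    rw [h, sub_self]

/-- the composite of three projections is the identity on the first plane -/
theorem PlaneSys.triangle (S : PlaneSys π SA Γ) (i j k : ι) : π i * π j * π k * π i = π i := by
  have two : ∀ x : A, x + x = 0 → x = 0 := fun x hx => by
    have := S.three x
    rwa [hx, zero_add] at this
  -- the composite and its mirror image
  set H : ι → A := fun l => π i * π j * π l * π i - π i with hH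
  set H' : ι → A := fun l => π i * π l * π j * π i - π i with hH'
  have hiH : ∀ l, π i * H l = H l ∧ H l * π i = H l ∧ π i * H' l = H' l ∧ H' l * π i = H' l := fun l =>
    ⟨by simp only [hH, mul_sub, ← mul_assoc, S.idem], by simp only [hH, sub_mul, mul_assoc, S.idem],
      by simp only [hH', mul_sub, ← mul_assoc, S.idem], by simp only [hH', sub_mul, mul_assoc, S.idem]⟩
  have hprod : ∀ l, H l + H' l + H l * H' l = 0 := by
    intro l
    have h : (π i * π j * π l * π i) * (π i * π l * π j * π i) = π i :=
      calc (π i * π j * π l * π i) * (π i * π l * π j * π i)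
          = π i * π j * (π l * (π i * π i) * π l) * π j * π i := by simp only [mul_assoc]
        _ = π i * (π j * π l * π j) * π i := by rw [S.idem, S.rect]; simp only [mul_assoc]
        _ = π i := by rw [S.rect, S.rect]
    have e1 : π i * π j * π l * π i = H l + π i := by simp only [hH, sub_add_cancel]
    have e2 : π i * π l * π j * π i = H' l + π i := by simp only [hH', sub_add_cancel]
    rw [e1, e2, add_mul, mul_add, mul_add, (hiH l).2.1, (hiH l).2.2.1, S.idem] at h
    have h' := sub_eq_zero.2 h
    rw [← h']; abel
  -- the effect of a corner unit on the third projection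
  have hmove : ∀ e e', Γ i e e' → ∀ l, ∃ m, H m = H l * e' ∧ H' m = e * H' l := by
    intro e e' he l
    obtain ⟨m, hm⟩ := S.closed i e e' l he
    obtain ⟨he1, he2, he3, he4, he5, -⟩ := S.corner i e e' he
    have hr : (1 + (e' - π i)) * π i = e' := by rw [add_mul, one_mul, sub_mul, he4, S.idem]; abel
    have hl : π i * (1 + (e - π i)) = e := by rw [mul_add, mul_one, mul_sub, he1, S.idem]; abel
    refine ⟨m, ?_, ?_⟩
    · simp only [hH]
      calc π i * π j * π m * π i - π i
          = π i * π j * (1 + (e - π i)) * π l * ((1 + (e' - π i)) * π i) - π i := by rw [hm]; simp only [mul_assoc]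
        _ = π i * π j * π l * (π i * e') + π i * π j * (e * π l * e') - π i * π j * π i * π l * (π i * e') - π i := by
            rw [hr, he3]; noncomm_ring
        _ = π i * π j * π l * (π i * e') + π i * π j * (π i * e * π i * π l * (π i * e'))
              - π i * π l * (π i * e') - π i := by
            rw [S.rect, he3, he1, he2]
        _ = (π i * π j * π l * π i) * e' + (π i * π j * π i) * e * (π i * π l * π i) * e'
              - (π i * π l * π i) * e' - π i := by simp only [mul_assoc]
        _ = (π i * π j * π l * π i - π i) * e' := by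
            rw [S.rect, S.rect, he1, he2, he5, sub_mul, he3]; abel
    · simp only [hH']
      calc π i * π m * π j * π i - π i
          = (π i * (1 + (e - π i))) * π l * (1 + (e' - π i)) * π j * π i - π i := by rw [hm]; simp only [mul_assoc]
        _ = e * π l * π j * π i + e * π l * (e' * π j * π i) - e * π l * (π i * π j * π i) - π i := by
            rw [hl]; noncomm_ring
        _ = (e * π i) * π l * π j * π i + (e * π i) * π l * ((π i * e' * π i) * π j * π i)
              - (e * π i) * π l * (π i * π j * π i) - π i := by rw [he3, he4, he2]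
        _ = e * (π i * π l * π j * π i) + e * (π i * π l * π i) * e' * (π i * π j * π i)
              - e * (π i * π l * (π i * π j * π i)) - π i := by simp only [mul_assoc]
        _ = e * (π i * π l * π j * π i - π i) := by
            rw [S.rect i j, S.rect i l, he2, mul_assoc e, he4, he5, mul_sub, he2]; abel
  have hanti : ∀ l, H' l = -H l := by
    intro l
    obtain ⟨m, hm1, hm2⟩ := hmove _ _ (S.neg i) l
    have h1 := hprod l
    have h2 := hprod m
    rw [hm1, hm2, mul_neg, neg_mul, (hiH l).2.1, (hiH l).2.2.1, neg_mul_neg] at h2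
    have h3 : (H l + H' l) + (H l + H' l) = 0 := by
      have h4 := sub_eq_zero.2 (h1.trans h2.symm)
      rw [← h4]; abel
    exact eq_neg_of_add_eq_zero_right (two _ h3)
  have hswap : ∀ e e', Γ i e e' → e * H k = H k * e' := by
    intro e e' he
    obtain ⟨m, hm1, hm2⟩ := hmove e e' he k
    have := hanti m
    rw [hm1, hm2, hanti, mul_neg, neg_inj] at this
    exact this
  obtain ⟨e, f, e', f', he, hf, hef, hq⟩ := S.quat i
  obtain ⟨-, -, -, he4, he5, -⟩ := S.corner i e e' he
  obtain ⟨-, -, -, -, hf5, -⟩ := S.corner i f f' hf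
  have h1 : e * f * H k = H k * (f' * e') := hswap _ _ hef
  have h2 : e * f * H k = H k * (e' * f') := by
    rw [mul_assoc, hswap f f' hf, ← mul_assoc, hswap e e' he, mul_assoc]
  have h3 : H k * (f' * e') = 0 := two _ (by
    nth_rw 1 [← h1]
    rw [h2, hq, mul_neg, neg_add_cancel])
  have h4 : H k = 0 := by
    have hei : e' * e = π i := (S.corner i e e' he).2.2.2.2.2
    have hfi : f' * f = π i := (S.corner i f f' hf).2.2.2.2.2
    calc H k = H k * (f' * π i * f) := by rw [(S.corner i f f' hf).2.2.2.1, hfi, (hiH k).2.1]
      _ = H k * (f' * e') * e * f := by rw [← hei]; simp only [mul_assoc]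
      _ = 0 := by rw [h3, zero_mul, zero_mul]
  exact sub_eq_zero.1 h4

theorem PlaneSys.mul_two (S : PlaneSys π SA Γ) (o i j : ι) : π i * π j = π i * π o * π j :=
  calc π i * π j = (π i * π o * π i) * (π j * π o * π j) := by rw [S.rect, S.rect]
    _ = π i * (π o * π i * π j * π o) * π j := by simp only [mul_assoc]
    _ = π i * π o * π j := by rw [S.triangle]

/-- products of three differences vanish -/
theorem PlaneSys.cube (S : PlaneSys π SA Γ) (o a b i : ι) :
    (π a - π o) * (π b - π o) * π o = 0 ∧ (π a - π o) * (π b - π o) * (π i - π o) = 0 := by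
  have h1 : (π a - π o) * (π b - π o) * π o = 0 :=
    calc (π a - π o) * (π b - π o) * π o
        = π a * π b * π o - π a * (π o * π o) - π o * π b * π o + π o * π o * π o := by noncomm_ring
      _ = π a * π o * π b * π o - π a * π o - π o + π o := by rw [S.rect, S.idem, S.idem, S.mul_two o a b]
      _ = π a * (π o * π b * π o) - π a * π o - π o + π o := by simp only [mul_assoc]
      _ = 0 := by rw [S.rect]; abel
  refine ⟨h1, ?_⟩
  calc (π a - π o) * (π b - π o) * (π i - π o)
      = (π a - π o) * (π b * π i - π o * π i - (π b - π o) * π o) := by noncomm_ring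
    _ = (π a - π o) * ((π b - π o) * π o * π i - (π b - π o) * π o) := by
        rw [S.mul_two o b i, sub_mul (π b) (π o) (π o), S.idem, sub_mul (π b * π o) (π o) (π i)]
    _ = (π a - π o) * (π b - π o) * π o * π i - (π a - π o) * (π b - π o) * π o := by noncomm_ring
    _ = 0 := by rw [h1, zero_mul, sub_zero]

/-- the product of the reflections of two planes -/
theorem PlaneSys.refl_mul (S : PlaneSys π SA Γ) (o i : ι) :
    (1 + π i) * (1 + π o) = 1 + (π i - π o) * (1 + π o) ∧
      (π i - π o) * (1 + π o) = (1 + (1 - π i)) * (π i - π o) := by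
  constructor
  · rw [sub_mul, mul_add (π o), mul_one, S.idem]
    have := S.three (π o)
    calc (1 + π i) * (1 + π o) = 1 + π i * (1 + π o) + (π o + π o + π o) - (π o + π o) := by noncomm_ring
      _ = _ := by rw [this]; abel
  · calc (π i - π o) * (1 + π o) = π i - π o + π i * π o - π o * π o := by noncomm_ring
      _ = π i - π o + π i * π o - π o + (π i - π i * π i) := by rw [S.idem, S.idem, sub_self, add_zero]
      _ = _ := by noncomm_ring

end Cfsg.Lib.BlockNormal
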