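/-
The products of two reflections of a plane system generate transformations of exponent three.
-/
import Cfsg.Agent.BlockNormal.Plane
import Mathlib.Algebra.Group.Hom.End
import Mathlib.Algebra.Ring.Basic
import Mathlib.Algebra.Group.Hom.Basic
import Mathlib.Algebra.Ring.Equiv
import Mathlib.Algebra.GroupWithZero.Basic

set_option autoImplicit false

namespace Cfsg.Lib.BlockNormal

variable {A : Type*} [Ring A] {ι : Type*} {π : ι → A} {SA : A → Prop} {Γ : ι → A → A → Prop}

/-- the difference of the products of two reflections from the identity -/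
def mOf (π : ι → A) (o a : ι) : A := (π a - π o) * (1 + π o)

theorem PlaneSys.m_cube (S : PlaneSys π SA Γ) (o a b i : ι) : mOf π o a * mOf π o b * mOf π o i = 0 := by
  have hn : ∀ c, (π c - π o) * π o = (1 - π c) * (π c - π o) := by
    intro c
    have h := (S.refl_mul o c).2
    rw [mul_add, mul_one, add_mul, one_mul] at h
    exact add_left_cancel h
  have h3 := (S.cube o a b i).2
  have h4 : (π a - π o) * π b * (π b - π o) * (π i - π o) = 0 :=
    calc (π a - π o) * π b * (π b - π o) * (π i - π o)
        = (π a - π o) * (π b - π o) * (π b - π o) * (π i - π o)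
          + ((π a - π o) * π o) * (π b - π o) * (π i - π o) := by noncomm_ring
      _ = 0 := by
        rw [(S.cube o a b b).2, zero_mul, zero_add, hn, mul_assoc (1 - π a), mul_assoc (1 - π a), h3, mul_zero]
  calc mOf π o a * mOf π o b * mOf π o i
      = ((π a - π o) * (1 + π o)) * ((π b - π o) * (1 + π o)) * (π i - π o) * (1 + π o) := by
        simp only [mOf, mul_assoc]
    _ = (1 + (1 - π a)) * ((π a - π o) * ((1 + (1 - π b)) * (π b - π o)) * (π i - π o)) * (1 + π o) := by
        rw [(S.refl_mul o a).2, (S.refl_mul o b).2]; simp only [mul_assoc]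
    _ = (1 + (1 - π a)) * ((π a - π o) * (π b - π o) * (π i - π o) + (π a - π o) * (π b - π o) * (π i - π o)
          - (π a - π o) * π b * (π b - π o) * (π i - π o)) * (1 + π o) := by noncomm_ring
    _ = 0 := by rw [h3, h4, add_zero, sub_zero, mul_zero, zero_mul]

variable {V : Type*} [AddCommGroup V] {π : ι → AddMonoid.End V} {SA : AddMonoid.End V → Prop}
  {Γ : ι → AddMonoid.End V → AddMonoid.End V → Prop}

/-- acting unipotently of class three with respect to the differences -/
def UniAct (π : ι → AddMonoid.End V) (o : ι) (x : AddMonoid.End V) : Prop :=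
  (∀ v, ∀ a b, mOf π o a (mOf π o b (x v - v)) = 0) ∧
  (∀ v, (∀ a b, mOf π o a (mOf π o b v) = 0) → ∀ a, mOf π o a (x v - v) = 0) ∧
  ∀ v, (∀ a, mOf π o a v = 0) → x v = v

theorem UniAct.one (o : ι) : UniAct π o 1 :=
  ⟨fun v a b => by rw [AddMonoid.End.coe_one, id_eq, sub_self, map_zero, map_zero],
    fun v _ a => by rw [AddMonoid.End.coe_one, id_eq, sub_self, map_zero], fun v _ => rfl⟩

theorem UniAct.mul {o : ι} {x y : AddMonoid.End V} (hx : UniAct π o x) (hy : UniAct π o y) :
    UniAct π o (x * y) := by
  have h1 : ∀ v, (∀ a b, mOf π o a (mOf π o b v) = 0) → ∀ a b, mOf π o a (mOf π o b (x v)) = 0 := fun v hv a b => by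
    have := hx.1 v a b
    rw [map_sub, map_sub, hv, sub_zero] at this
    exact this
  refine ⟨fun v a b => ?_, fun v hv a => ?_, fun v hv => ?_⟩
  · have e : (x * y) v - v = (x (y v) - y v) + (y v - v) := by rw [AddMonoid.End.coe_mul, Function.comp_apply]; abel
    rw [e, map_add, map_add, hx.1, hy.1, add_zero]
  · have hyv : ∀ a b, mOf π o a (mOf π o b (y v)) = 0 := fun a b => by
      have := hy.1 v a b
      rw [map_sub, map_sub, hv, sub_zero] at this
      exact this
    have e : (x * y) v - v = (x (y v) - y v) + (y v - v) := by rw [AddMonoid.End.coe_mul, Function.comp_apply]; abel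
    rw [e, map_add, hx.2.1 _ hyv, hy.2.1 v hv, add_zero]
  · rw [AddMonoid.End.coe_mul, Function.comp_apply, hy.2.2 v hv, hx.2.2 v hv]

theorem UniAct.pow {o : ι} {x : AddMonoid.End V} (hx : UniAct π o x) : ∀ n : ℕ, UniAct π o (x ^ n)
  | 0 => by rw [pow_zero]; exact UniAct.one o
  | n + 1 => by rw [pow_succ]; exact (hx.pow n).mul hx

theorem UniAct.pow_three {o : ι} {x : AddMonoid.End V} (hx : UniAct π o x) (h3 : ∀ v : V, v + v + v = 0) :
    x ^ 3 = 1 := by
  refine AddMonoidHom.ext fun v => ?_
  set u := x v - v with hu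
  set w := x u - u with hw
  have h1 : x w = w := hx.2.2 w fun a => hx.2.1 u (fun a b => hx.1 v a b) a
  have e1 : x v = v + u := by rw [hu]; abel
  have e2 : x u = u + w := by rw [hw]; abel
  show x (x (x v)) = v
  rw [e1, map_add, e1, e2, map_add, map_add, map_add, e1, e2, h1]
  calc v + u + (u + w) + (u + w + w) = v + (u + u + u) + (w + w + w) := by abel
    _ = v := by rw [h3, h3, add_zero, add_zero]

/-- the product of two reflections acts unipotently -/
theorem PlaneSys.uniAct (S : PlaneSys π SA Γ) (o a : ι) : UniAct π o ((1 + π a) * (1 + π o)) := by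
  rw [(S.refl_mul o a).1, ← show mOf π o a = (π a - π o) * (1 + π o) from rfl]
  have e : ∀ v, (1 + mOf π o a) v - v = mOf π o a v := fun v => by
    rw [show (1 + mOf π o a) v = v + mOf π o a v from rfl, add_sub_cancel_left]
  refine ⟨fun v b c => ?_, fun v hv b => ?_, fun v hv => ?_⟩
  · rw [e]
    have := S.m_cube o b c a
    exact DFunLike.congr_fun this v
  · rw [e]; exact hv b a
  · rw [← sub_eq_zero, e]; exact hv a

end Cfsg.Lib.BlockNormal
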