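/-
An abelian section with the action of the elements normalizing it.
-/
import Mathlib.GroupTheory.QuotientGroup.Basic
import Mathlib.GroupTheory.Commutator.Basic
import Mathlib.Algebra.Group.Hom.End
import Mathlib.Algebra.Group.TypeTags.Hom
import Mathlib.Tactic.Group

set_option autoImplicit false
set_option linter.style.haveILetI false

namespace Cfsg.Lib.BlockNormal

open Subgroup
open scoped commutatorElement

theorem exists_section.{u} {G : Type u} [Group G] (A B : Subgroup G) (hBA : B ≤ A)
    (hcomm : ∀ a ∈ A, ∀ a' ∈ A, ⁅a, a'⁆ ∈ B) :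
    ∃ (V : Type u) (_ : AddCommGroup V) (ψ : ↥A → V)
      (Φ : ↥(normalizer (A : Set G) ⊓ normalizer (B : Set G)) →* AddMonoid.End V),
      Function.Surjective ψ ∧ (∀ a b, ψ (a * b) = ψ a + ψ b) ∧ (∀ a, ψ a = 0 ↔ (a : G) ∈ B) ∧
        ∀ (g : ↥(normalizer (A : Set G) ⊓ normalizer (B : Set G))) (a b : ↥A),
          (b : G) = (g : G) * a * (g : G)⁻¹ → Φ g (ψ a) = ψ b := by
  classical
  haveI hn : (B.subgroupOf A).Normal := normal_subgroupOf_of_le_normalizer fun a ha => by
    refine mem_normalizer_iff.2 fun x => ⟨fun hx => ?_, fun hx => ?_⟩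
    · rw [show a * x * a⁻¹ = ⁅a, x⁆ * x by rw [commutatorElement_def]; group]
      exact mul_mem (hcomm a ha x (hBA hx)) hx
    · have hxA : x ∈ A := by
        have := mul_mem (mul_mem (inv_mem ha) (hBA hx)) ha
        simpa [mul_assoc] using this
      have h1 := hcomm a ha x hxA
      have := mul_mem (inv_mem h1) hx
      rw [show ⁅a, x⁆⁻¹ * (a * x * a⁻¹) = x by rw [commutatorElement_def]; group] at this
      exact this
  let q := QuotientGroup.mk' (B.subgroupOf A)
  letI : CommGroup (↥A ⧸ B.subgroupOf A) :=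
    { (inferInstance : Group (↥A ⧸ B.subgroupOf A)) with
      mul_comm := fun x y => by
        obtain ⟨a, rfl⟩ := QuotientGroup.mk'_surjective _ x
        obtain ⟨b, rfl⟩ := QuotientGroup.mk'_surjective _ y
        rw [← map_mul, ← map_mul]
        refine (QuotientGroup.eq).2 ?_
        rw [mem_subgroupOf]
        show ((a : G) * b)⁻¹ * ((b : G) * a) ∈ B
        rw [show ((a : G) * b)⁻¹ * ((b : G) * a) = ⁅(b : G)⁻¹, (a : G)⁻¹⁆ by rw [commutatorElement_def]; group]
        exact hcomm _ (inv_mem b.2) _ (inv_mem a.2) }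
  let V := Additive (↥A ⧸ B.subgroupOf A)
  let ψ : ↥A → V := fun a => Additive.ofMul (q a)
  have hker : ∀ a, ψ a = 0 ↔ (a : G) ∈ B := fun a => by
    rw [show ψ a = 0 ↔ q a = 1 from Iff.rfl, QuotientGroup.mk'_apply, QuotientGroup.eq_one_iff, mem_subgroupOf]
  let σ : ↥(normalizer (A : Set G) ⊓ normalizer (B : Set G)) → (↥A →* ↥A) := fun g =>
    { toFun := fun a => ⟨(g : G) * a * (g : G)⁻¹, (mem_normalizer_iff.1 (mem_inf.1 g.2).1 _).1 a.2⟩
      map_one' := Subtype.ext (by simp)
      map_mul' := fun a b => Subtype.ext (by simp [mul_assoc]) }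
  have hσ : ∀ g, B.subgroupOf A ≤ (B.subgroupOf A).comap (σ g) := fun g a ha =>
    (mem_normalizer_iff.1 (mem_inf.1 g.2).2 _).1 ha
  let act : ↥(normalizer (A : Set G) ⊓ normalizer (B : Set G)) → AddMonoid.End V := fun g =>
    MonoidHom.toAdditive (QuotientGroup.map _ _ (σ g) (hσ g))
  have hact : ∀ g a, act g (ψ a) = ψ (σ g a) := fun g a => rfl
  have hsurj : Function.Surjective ψ := fun v => by
    obtain ⟨a, ha⟩ := QuotientGroup.mk'_surjective _ (Additive.toMul v)
    exact ⟨a, congrArg Additive.ofMul ha⟩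
  refine ⟨V, inferInstance, ψ,
    { toFun := act
      map_one' := AddMonoidHom.ext fun v => by
        obtain ⟨a, rfl⟩ := hsurj v
        show act 1 (ψ a) = ψ a
        refine (hact 1 a).trans (congrArg ψ (Subtype.ext (by simp [σ])))
      map_mul' := fun g h => AddMonoidHom.ext fun v => by
        obtain ⟨a, rfl⟩ := hsurj v
        show act (g * h) (ψ a) = act g (act h (ψ a))
        refine (hact (g * h) a).trans ?_
        refine Eq.trans ?_ (congrArg (act g) (hact h a)).symm
        refine Eq.trans ?_ (hact g (σ h a)).symm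
        exact congrArg ψ (Subtype.ext (by simp [σ, mul_assoc])) },
    hsurj, fun a b => rfl, hker, fun g a b hb => ?_⟩
  show act g (ψ a) = ψ b
  exact (hact g a).trans (congrArg ψ (Subtype.ext hb.symm))

end Cfsg.Lib.BlockNormal
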