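/-
The centralizer of the module of an exceptional block normalizes the top of the block.
-/
import Cfsg.Agent.BlockNormal.Conjugates
import Cfsg.Agent.BlockNormal.Nilpotent
import Cfsg.Agent.BlockNormal.Section

set_option autoImplicit false

namespace Cfsg.Lib.BlockNormal

set_option linter.style.haveILetI false
set_option linter.unusedSectionVars false

open Subgroup Matrix Cfsg.Lib.BlockPair
open scoped commutatorElement MatrixGroups

universe u

variable {G : Type u} [Group G] [Finite G] [Fact (Nat.Prime 3)] {E : Subgroup G} {K : Type} [Field K] [Fintype K]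
variable (S : Ex E K)
include S

theorem Ex.nu_conj_E {e y : G} (he : e ∈ E) (hy : y ∈ wOf 3 E) : S.nu (e * y * e⁻¹) = S.nu y := by
  obtain ⟨a, ha, z0, hz0, rfl⟩ := decompose S.isBlk hy
  have hc : Commute e z0 := mem_centralizer_iff.1 (mem_inf.1 hz0).2 e he
  rw [show e * (a * z0) * e⁻¹ = (e * a * e⁻¹) * (e * z0 * e⁻¹) by group, hc.eq, mul_inv_cancel_right,
    S.nu_decompose (conj_w1_self S.isBlk (le_normalizer he) ha) hz0, S.nu_decompose ha hz0]

theorem Ex.nu_conj_C {c y : G} (hc : c ∈ centralizer (w1Of 3 E : Set G)) (hy : y ∈ wOf 3 E) :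
    S.nu (c * y * c⁻¹) = S.nu (c * S.nu y * c⁻¹) := by
  obtain ⟨a, ha, z0, hz0, rfl⟩ := decompose S.isBlk hy
  have hW := w1_le_wOf S.isBlk ha
  rw [S.nu_decompose ha hz0, show c * (a * z0) * c⁻¹ = (c * a * c⁻¹) * (c * z0 * c⁻¹) by group,
    ← mem_centralizer_iff.1 hc a ha, mul_inv_cancel_right, S.nu_mul hW (S.conj_w hc (mem_inf.1 hz0).1),
    (S.nu_eq_one hW).2 ha, one_mul]

set_option maxHeartbeats 1600000 in
theorem Ex.normalizes_top {c0 q0 : G} (hc0 : c0 ∈ centralizer (w1Of 3 E : Set G)) (hq0 : q0 ∈ qOf 3 E) :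
    c0 * q0 * c0⁻¹ ∈ qOf 3 E := by
  classical
  have hE := S.isBlk
  set C := centralizer (w1Of 3 E : Set G) with hC
  have hEH : ∀ {e}, e ∈ E → e ∈ hOf 3 E := fun he => normalizer_le_hOf hE (le_normalizer he)
  set R2 := Subgroup.closure {x : G | ∃ c ∈ C, ∃ q ∈ qOf 3 E, c * q * c⁻¹ = x} with hR2
  have hmemR2 : ∀ {c q}, c ∈ C → q ∈ qOf 3 E → c * q * c⁻¹ ∈ R2 := fun hc hq =>
    subset_closure ⟨_, hc, _, hq, rfl⟩
  have hQR2 : qOf 3 E ≤ R2 := fun q hq => by simpa using hmemR2 (one_mem C) hq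
  have hR2R : R2 ≤ rOf 3 E := (closure_le _).2 fun x ⟨c, hc, q, hq, hx⟩ => hx ▸ S.conj_top hc hq
  -- normalizing elements
  have hCn : ∀ c ∈ C, c ∈ normalizer (R2 : Set G) ⊓ normalizer (wOf 3 E : Set G) := by
    intro c hc
    refine mem_inf.2 ⟨Cfsg.Lib.Large.mem_normalizer_of_le _ ?_,
      Cfsg.Lib.Large.mem_normalizer_of_le _ fun w hw => S.conj_w hc hw⟩
    suffices h : R2 ≤ R2.comap (MulAut.conj c).toMonoidHom from fun x hx => h hx
    refine (closure_le _).2 ?_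
    rintro _ ⟨d, hd, q, hq, rfl⟩
    show c * (d * q * d⁻¹) * c⁻¹ ∈ R2
    have := hmemR2 (mul_mem hc hd) hq
    simpa [mul_assoc] using this
  have hEn : ∀ e ∈ E, e ∈ normalizer (R2 : Set G) ⊓ normalizer (wOf 3 E : Set G) := by
    intro e he
    refine mem_inf.2 ⟨Cfsg.Lib.Large.mem_normalizer_of_le _ ?_,
      Cfsg.Lib.Large.mem_normalizer_of_le _ fun w hw => conj_wOf (le_normalizer he) hw⟩
    suffices h : R2 ≤ R2.comap (MulAut.conj e).toMonoidHom from fun x hx => h hx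
    refine (closure_le _).2 ?_
    rintro _ ⟨d, hd, q, hq, rfl⟩
    show e * (d * q * d⁻¹) * e⁻¹ ∈ R2
    have := hmemR2 (conj_cOf (hEH he) hd) (conj_qOf (le_normalizer he) hq)
    simpa [mul_assoc] using this
  -- commutators with the `p`-core
  have hRR2 : ∀ x ∈ R2, ∀ r ∈ rOf 3 E, ⁅x, r⁆ ∈ wOf 3 E := by
    intro x hx
    induction hx using closure_induction with
    | mem x hx =>
      obtain ⟨c, hc, q, hq, rfl⟩ := hx
      intro r hr
      have h := S.conj_w hc (S.qr hq (conj_rOf (inv_mem (centralizer_le_hOf hc)) hr))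
      rw [show ⁅c * q * c⁻¹, r⁆ = c * ⁅q, c⁻¹ * r * c⁻¹⁻¹⁆ * c⁻¹ by simp only [commutatorElement_def]; group]
      exact h
    | one => intro r _; simp [one_mem]
    | mul a b ha hb iha ihb =>
      intro r hr
      exact (S.nu_mul_left (hR2R ha) (iha r hr) (ihb r hr)).1
    | inv a ha iha =>
      intro r hr
      rw [show ⁅a⁻¹, r⁆ = a⁻¹ * ⁅a, r⁆⁻¹ * a⁻¹⁻¹ by simp only [commutatorElement_def]; group,
        (S.w_comm (inv_mem (iha r hr)) (inv_mem (hR2R ha))).eq, mul_inv_cancel_right]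
      exact inv_mem (iha r hr)
  have hW2 : wOf 3 E ≤ R2 := (wOf_le_qOf E).trans hQR2
  obtain ⟨V, iV, ψ, Φ, hψs, hψadd, hψker, hΦ⟩ := exists_section R2 (wOf 3 E) hW2
    fun a ha b hb => hRR2 a ha b (hR2R hb)
  let P : G → AddMonoid.End V := fun g =>
    if h : g ∈ normalizer (R2 : Set G) ⊓ normalizer (wOf 3 E : Set G) then Φ ⟨g, h⟩ else 0
  have hPdef : ∀ g (h : g ∈ normalizer (R2 : Set G) ⊓ normalizer (wOf 3 E : Set G)), P g = Φ ⟨g, h⟩ :=
    fun g h => dif_pos h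
  have hP : ∀ {g}, g ∈ normalizer (R2 : Set G) ⊓ normalizer (wOf 3 E : Set G) → ∀ a b : ↥R2,
      (b : G) = g * a * g⁻¹ → P g (ψ a) = ψ b := fun {g} h a b hb => by
    rw [hPdef g h]; exact hΦ ⟨g, h⟩ a b hb
  have hPmul : ∀ {a b}, a ∈ normalizer (R2 : Set G) ⊓ normalizer (wOf 3 E : Set G) →
      b ∈ normalizer (R2 : Set G) ⊓ normalizer (wOf 3 E : Set G) → P (a * b) = P a * P b := fun {a b} ha hb => by
    rw [hPdef a ha, hPdef b hb, hPdef _ (mul_mem ha hb), ← map_mul]; rfl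
  have hPone : P 1 = 1 := by rw [hPdef 1 (one_mem _)]; exact map_one Φ
  have hψeq : ∀ a b : ↥R2, ψ a = ψ b ↔ (a : G)⁻¹ * b ∈ wOf 3 E := by
    intro a b
    have h0 : ψ 1 = 0 := (hψker 1).2 (one_mem _)
    have hi : ψ a⁻¹ = -ψ a := eq_neg_of_add_eq_zero_left (by rw [← hψadd, inv_mul_cancel, h0])
    rw [← Subgroup.coe_inv, ← Subgroup.coe_mul, ← hψker, hψadd, hi, neg_add_eq_zero]
  have hψ3 : ∀ v : V, v + v + v = 0 := by
    intro v
    obtain ⟨⟨x, hx⟩, rfl⟩ := hψs v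
    rw [← hψadd, ← hψadd]
    refine (hψker _).2 ?_
    show x * x * x ∈ wOf 3 E
    rw [mul_assoc, ← pow_three]
    induction hx using closure_induction with
    | mem x hx =>
      obtain ⟨c, hc, q, hq, rfl⟩ := hx
      rw [conj_pow]
      exact S.conj_w hc (S.q_cube hq)
    | one => rw [one_pow]; exact one_mem _
    | mul a b ha hb iha ihb =>
      have e : (a * b) ^ 3 = a * (b * a) * (b * a) * b := by rw [pow_three]; group
      have hba : b * a = ⁅b, a⁆ * (a * b) := by rw [commutatorElement_def]; group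
      have hw := hRR2 b hb a (hR2R ha)
      have hR : ∀ {y}, y ∈ R2 → Commute y ⁅b, a⁆ := fun hy => S.w_comm hw (hR2R hy)
      have e2 : (a * b) ^ 3 = ⁅b, a⁆ * ⁅b, a⁆ * ⁅b, a⁆ * (a ^ 3 * b ^ 3) := by
        have c1 : b * a = (a * b) * ⁅b, a⁆ := by rw [hba, ← (hR (mul_mem ha hb)).eq]
        calc (a * b) ^ 3 = a * (b * a) * (b * a) * b := e
          _ = a * ((a * b) * ⁅b, a⁆) * ((a * b) * ⁅b, a⁆) * b := by rw [← c1]
          _ = a * (a * b) * (⁅b, a⁆ * (a * b)) * (⁅b, a⁆ * b) := by group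
          _ = a * a * (b * a) * b * ⁅b, a⁆ * (b * ⁅b, a⁆) := by
            rw [← (hR (mul_mem ha hb)).eq, ← (hR hb).eq]; group
          _ = a * a * (a * b * ⁅b, a⁆) * b * ⁅b, a⁆ * (b * ⁅b, a⁆) := by rw [← c1]
          _ = (a ^ 3 * b) * ⁅b, a⁆ * b * ⁅b, a⁆ * b * ⁅b, a⁆ := by rw [pow_three]; group
          _ = (a ^ 3 * b * b) * (⁅b, a⁆ * ⁅b, a⁆) * b * ⁅b, a⁆ := by
            rw [mul_assoc (a ^ 3 * b) ⁅b, a⁆ b, ← (hR hb).eq]; group
          _ = (a ^ 3 * b * b * b) * (⁅b, a⁆ * ⁅b, a⁆ * ⁅b, a⁆) := by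
            rw [mul_assoc (a ^ 3 * b * b) _ b, ← ((hR hb).mul_right (hR hb)).eq]; group
          _ = _ := by
            rw [← (((hR (mul_mem (pow_mem ha 3) (pow_mem hb 3))).mul_right (hR (mul_mem (pow_mem ha 3)
              (pow_mem hb 3)))).mul_right (hR (mul_mem (pow_mem ha 3) (pow_mem hb 3)))).eq, pow_three b]
            group
      rw [e2]
      exact mul_mem (mul_mem (mul_mem hw hw) hw) (mul_mem iha ihb)
    | inv a ha iha => rw [inv_pow]; exact inv_mem iha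
  have three : ∀ x : AddMonoid.End V, x + x + x = 0 := fun x => DFunLike.ext _ _ fun v => hψ3 (x v)
  -- the pairing
  let rep : V → ↥R2 := fun v => (hψs v).choose
  have hrep : ∀ v, ψ (rep v) = v := fun v => (hψs v).choose_spec
  have hcW : ∀ a b : ↥R2, ⁅(a : G), (b : G)⁆ ∈ wOf 3 E := fun a b => hRR2 a a.2 b (hR2R b.2)
  let μ : V → V → G := fun v w => S.nu ⁅(rep v : G), (rep w : G)⁆
  have hwd : ∀ a a' b : ↥R2, ψ a = ψ a' → ⁅(a : G), (b : G)⁆ = ⁅(a' : G), (b : G)⁆ := by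
    intro a a' b h
    have hw := (hψeq a a').1 h
    conv_rhs => rw [show (a' : G) = a * ((a : G)⁻¹ * a') by group,
      show ⁅(a : G) * ((a : G)⁻¹ * a'), (b : G)⁆ =
        a * ⁅(a : G)⁻¹ * a', (b : G)⁆ * (a : G)⁻¹ * ⁅(a : G), (b : G)⁆ by simp only [commutatorElement_def]; group,
      commutatorElement_eq_one_iff_mul_comm.2 (S.w_comm hw (hR2R b.2)).eq.symm]
    group
  have hμ : ∀ a b : ↥R2, μ (ψ a) (ψ b) = S.nu ⁅(a : G), (b : G)⁆ := by
    intro a b
    show S.nu ⁅(rep (ψ a) : G), (rep (ψ b) : G)⁆ = _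
    rw [hwd _ a _ (hrep _), ← commutatorElement_inv (rep (ψ b) : G) a, hwd _ b a (hrep _),
      commutatorElement_inv]
  have hμadd : ∀ u v w, μ (u + v) w = μ u w * μ v w := by
    intro u v w
    obtain ⟨a, rfl⟩ := hψs u
    obtain ⟨b, rfl⟩ := hψs v
    obtain ⟨c, rfl⟩ := hψs w
    rw [← hψadd, hμ, hμ, hμ, Subgroup.coe_mul]
    exact (S.nu_mul_left (hR2R a.2) (hcW a c) (hcW b c)).2
  have hμZ : ∀ u v, μ u v ∈ zOf 3 E := fun u v => S.nu_mem (hcW _ _)
  have hμswap : ∀ u v, μ v u = (μ u v)⁻¹ := fun u v => S.nu_comm (hcW _ _)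
  have hμadd' : ∀ u v w, μ w (u + v) = μ w u * μ w v := by
    intro u v w
    rw [hμswap (u + v) w, hμadd, _root_.mul_inv_rev, ← hμswap, ← hμswap,
      (wOf_comm E (mem_inf.1 (hμZ w v)).1 (mem_inf.1 (hμZ w u)).1).eq]
  have hμzero : ∀ w, μ 0 w = 1 := fun w => by
    have := hμadd 0 0 w
    rwa [add_zero, left_eq_mul] at this
  have hμzero' : ∀ w, μ w 0 = 1 := fun w => by rw [hμswap, hμzero, inv_one]
  let SA : AddMonoid.End V → Prop := fun x => ∀ u v, μ (x u) v = μ u (x v)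
  have hSA : ∀ a b, SA a → SA b → SA (a * b * a) := fun a b ha hb u v => by
    show μ (a (b (a u))) v = μ u (a (b (a v)))
    rw [ha, hb, ha]
  -- elements of the block and of the centralizer
  have hPμE : ∀ {e}, e ∈ E → ∀ u v, μ (P e u) (P e v) = μ u v := by
    intro e he u v
    obtain ⟨a, rfl⟩ := hψs u
    obtain ⟨b, rfl⟩ := hψs v
    have hn := (mem_inf.1 (hEn e he)).1
    rw [hP (hEn e he) a ⟨_, (mem_normalizer_iff.1 hn _).1 a.2⟩ rfl,
      hP (hEn e he) b ⟨_, (mem_normalizer_iff.1 hn _).1 b.2⟩ rfl, hμ, hμ]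
    show S.nu ⁅e * (a : G) * e⁻¹, e * (b : G) * e⁻¹⁆ = _
    rw [show ⁅e * (a : G) * e⁻¹, e * (b : G) * e⁻¹⁆ = e * ⁅(a : G), (b : G)⁆ * e⁻¹ by
      simp only [commutatorElement_def]; group, S.nu_conj_E he (hcW a b)]
  have hPμC : ∀ {c}, c ∈ C → ∀ u v, μ (P c u) (P c v) = S.nu (c * μ u v * c⁻¹) := by
    intro c hc u v
    obtain ⟨a, rfl⟩ := hψs u
    obtain ⟨b, rfl⟩ := hψs v
    have hn := (mem_inf.1 (hCn c hc)).1
    rw [hP (hCn c hc) a ⟨_, (mem_normalizer_iff.1 hn _).1 a.2⟩ rfl,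
      hP (hCn c hc) b ⟨_, (mem_normalizer_iff.1 hn _).1 b.2⟩ rfl, hμ, hμ]
    show S.nu ⁅c * (a : G) * c⁻¹, c * (b : G) * c⁻¹⁆ = _
    rw [show ⁅c * (a : G) * c⁻¹, c * (b : G) * c⁻¹⁆ = c * ⁅(a : G), (b : G)⁆ * c⁻¹ by
      simp only [commutatorElement_def]; group, S.nu_conj_C hc (hcW a b)]
  have hPinv : ∀ {g}, g ∈ normalizer (R2 : Set G) ⊓ normalizer (wOf 3 E : Set G) →
      P g * P g⁻¹ = 1 ∧ P g⁻¹ * P g = 1 := fun hg =>
    ⟨by rw [← hPmul hg (inv_mem hg), mul_inv_cancel, hPone], by rw [← hPmul (inv_mem hg) hg, inv_mul_cancel, hPone]⟩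
  have hSAc : ∀ {c}, c ∈ C → ∀ x, SA x → SA (P c * x * P c⁻¹) := by
    intro c hc x hx u v
    have h1 : ∀ w, P c (P c⁻¹ w) = w := fun w => DFunLike.congr_fun (hPinv (hCn c hc)).1 w
    calc μ (P c (x (P c⁻¹ u))) v = μ (P c (x (P c⁻¹ u))) (P c (P c⁻¹ v)) := by rw [h1]
      _ = μ (P c (P c⁻¹ u)) (P c (x (P c⁻¹ v))) := by rw [hPμC hc, hPμC hc, hx]
      _ = μ u (P c (x (P c⁻¹ v))) := by rw [h1]
  -- the base plane
  set π0 : AddMonoid.End V := P S.z - 1 with hπ0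
  have hzn := hEn _ S.zE
  have hPzz : P S.z * P S.z = 1 := by rw [← hPmul hzn hzn, S.z_sq, hPone]
  have hπ0ψ : ∀ a : ↥R2, π0 (ψ a) = ψ ⟨⁅S.z, (a : G)⁆, hQR2 (comm_rOf S.hblk S.zE (hR2R a.2))⟩ := by
    intro a
    show P S.z (ψ a) - ψ a = _
    rw [sub_eq_iff_eq_add, ← hψadd]
    exact hP hzn a _ (by show ⁅S.z, (a : G)⁆ * a = _; rw [commutatorElement_def]; group)
  let ι : (Fin 2 → K) → V := fun v => ψ ⟨_, hQR2 (S.X.exists_crd v).choose.2⟩
  have hι : ∀ q : ↥(qOf 3 E), ι (S.X.crd q) = ψ ⟨q, hQR2 q.2⟩ := fun q =>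
    (hψeq _ _).2 ((S.X.crd_eq_iff _ _).1 (S.X.exists_crd (S.X.crd q)).choose_spec)
  have hιadd : ∀ v w, ι (v + w) = ι v + ι w := by
    intro v w
    obtain ⟨a, rfl⟩ := S.X.exists_crd v
    obtain ⟨b, rfl⟩ := S.X.exists_crd w
    rw [← S.X.crd_mul, hι, hι, hι, ← hψadd]
    rfl
  have hιinj : ∀ v w, ι v = ι w → v = w := by
    intro v w h
    obtain ⟨a, rfl⟩ := S.X.exists_crd v
    obtain ⟨b, rfl⟩ := S.X.exists_crd w
    rw [hι, hι] at h
    exact (S.X.crd_eq_iff a b).2 ((hψeq _ _).1 h)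
  have hι0 : ι 0 = 0 := by
    have h := hιadd 0 0
    rwa [add_zero, left_eq_add] at h
  have hπι : ∀ v, π0 (ι v) = ι v := by
    intro v
    obtain ⟨q, rfl⟩ := S.X.exists_crd v
    rw [hι, hπ0ψ]
    set d : ↥(qOf 3 E) := ⟨⁅S.z, (q : G)⁆, comm_rOf S.hblk S.zE (S.top q.2)⟩ with hd
    have e : S.X.crd d = S.X.crd q := by
      have h1 : conjQ (le_normalizer S.zE) q = d * q := Subtype.ext (by
        show S.z * (q : G) * S.z⁻¹ = ⁅S.z, (q : G)⁆ * q
        rw [commutatorElement_def]; group)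
      have h2 := S.crd_z q
      rw [h1, S.X.crd_mul] at h2
      funext i
      have h3 := congrFun h2 i
      simp only [Pi.add_apply, Pi.neg_apply] at h3
      linear_combination h3 - S.X.crd q i * S.three_zero
    rw [← hι q, ← e, hι d]
  let pr : V → (Fin 2 → K) := fun v =>
    S.X.crd ⟨⁅S.z, (rep v : G)⁆, comm_rOf S.hblk S.zE (hR2R (rep v).2)⟩
  have hpr : ∀ v, ι (pr v) = π0 v := fun v => by
    conv_rhs => rw [← hrep v, hπ0ψ]
    exact hι _
  have hprι : ∀ v, pr (ι v) = v := fun v => hιinj _ _ (by rw [hpr, hπι])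
  have hidem : π0 * π0 = π0 := DFunLike.ext _ _ fun v => by
    show π0 (π0 v) = π0 v
    rw [← hpr v, hπι]
  have hpradd : ∀ u v, pr (u + v) = pr u + pr v := fun u v => hιinj _ _ (by rw [hιadd, hpr, hpr, hpr, map_add])
  let L : Matrix (Fin 2) (Fin 2) K → AddMonoid.End V := fun M =>
    AddMonoidHom.mk' (fun u => ι (M *ᵥ pr u)) fun u v => by rw [hpradd, Matrix.mulVec_add, hιadd]
  have hLapp : ∀ M u, L M u = ι (M *ᵥ pr u) := fun M u => rfl
  have hLmul : ∀ M N, L M * L N = L (M * N) := fun M N => DFunLike.ext _ _ fun u => by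
    show L M (L N u) = L (M * N) u
    rw [hLapp, hLapp, hLapp, hprι, Matrix.mulVec_mulVec]
  have hL1 : L 1 = π0 := DFunLike.ext _ _ fun u => by rw [hLapp, one_mulVec, hpr]
  have hLadd : ∀ M N, L (M + N) = L M + L N := fun M N => DFunLike.ext _ _ fun u => by
    show ι ((M + N) *ᵥ pr u) = ι (M *ᵥ pr u) + ι (N *ᵥ pr u)
    rw [Matrix.add_mulVec, hιadd]
  have hLneg : ∀ M, L (-M) = -L M := fun M => eq_neg_of_add_eq_zero_left (by
    rw [← hLadd, neg_add_cancel]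
    exact DFunLike.ext _ _ fun u => by rw [hLapp, Matrix.zero_mulVec, hι0]; rfl)
  have hSAπ : SA π0 := by
    intro u v
    have h1 : μ (P S.z u) v = μ u (P S.z v) := by
      have h2 : P S.z (P S.z v) = v := DFunLike.congr_fun hPzz v
      conv_lhs => rw [← h2]
      exact hPμE S.zE u (P S.z v)
    have e1 : μ (π0 u) v * μ u v = μ (P S.z u) v := by
      rw [← hμadd]; congr 1; show P S.z u - u + u = _; rw [sub_add_cancel]
    have e2 : μ u (π0 v) * μ u v = μ u (P S.z v) := by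
      rw [← hμadd']; congr 1; show P S.z v - v + v = _; rw [sub_add_cancel]
    exact mul_right_cancel (e1.trans (h1.trans e2.symm))
  have hμι : ∀ v w, μ (ι v) (ι w) = S.phi (det2 v w) := by
    intro v w
    obtain ⟨a, rfl⟩ := S.X.exists_crd v
    obtain ⟨b, rfl⟩ := S.X.exists_crd w
    rw [hι, hι, hμ, S.nu_z (S.qq a.2 b.2), S.comm_eq]
  have hPE : ∀ e : ↥E, P (e : G) = 1 + (L (S.X.ρ' e : Matrix (Fin 2) (Fin 2) K) - π0) := by
    intro e
    refine DFunLike.ext _ _ fun u => ?_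
    have hen := hEn _ e.2
    have h1 : ∀ v, P (e : G) (ι v) = ι ((S.X.ρ' e : Matrix (Fin 2) (Fin 2) K) *ᵥ v) := by
      intro v
      obtain ⟨q, rfl⟩ := S.X.exists_crd v
      rw [← S.X.act'_elem, S.X.act'_crd, hι, hι]
      exact hP hen _ _ rfl
    set k := u - π0 u with hk
    have hk0 : π0 k = 0 := by
      rw [hk, map_sub, show π0 (π0 u) = π0 u from DFunLike.congr_fun hidem u, sub_self]
    have hcomm : ∀ v, π0 (P (e : G) v) = P (e : G) (π0 v) := by
      intro v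
      have hq : ⁅S.z, (e : G)⁆ ∈ qOf 3 E := by
        refine (S.X.D.kerρ (⁅(⟨S.z, S.zE⟩ : ↥E), e⁆)).1 ?_
        have hρz : S.X.D.ρ ⟨S.z, S.zE⟩ = -1 := S.exists_z.choose_spec.2.2.2.2.choose_spec.1
        rw [map_commutatorElement, hρz]
        exact commutatorElement_eq_one_iff_mul_comm.2 (by rw [neg_one_mul, mul_neg, mul_one])
      have hqn := hEn _ (qOf_le E hq)
      have hPq : P ⁅S.z, (e : G)⁆ = 1 := DFunLike.ext _ _ fun w => by
        obtain ⟨a, rfl⟩ := hψs w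
        rw [hP hqn a ⟨_, (mem_normalizer_iff.1 (mem_inf.1 hqn).1 _).1 a.2⟩ rfl]
        refine (hψeq _ _).2 ?_
        show (⁅S.z, (e : G)⁆ * (a : G) * ⁅S.z, (e : G)⁆⁻¹)⁻¹ * a ∈ wOf 3 E
        rw [show (⁅S.z, (e : G)⁆ * (a : G) * ⁅S.z, (e : G)⁆⁻¹)⁻¹ * a = ⁅⁅S.z, (e : G)⁆, (a : G)⁻¹⁆ by
          simp only [commutatorElement_def]; group]
        exact hRR2 _ (hQR2 hq) _ (inv_mem (hR2R a.2))
      have hze : P S.z * P (e : G) = P (e : G) * P S.z := by
        rw [← hPmul hzn hen, show S.z * (e : G) = ⁅S.z, (e : G)⁆ * ((e : G) * S.z) by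
          rw [commutatorElement_def]; group, hPmul hqn (mul_mem hen hzn), hPq, one_mul, hPmul hen hzn]
      show P S.z (P (e : G) v) - P (e : G) v = P (e : G) (P S.z v - v)
      rw [map_sub]
      exact congrArg (fun y => y - P (e : G) v) (DFunLike.congr_fun hze v)
    have hd : P (e : G) k - k = 0 := by
      obtain ⟨a, ha⟩ := hψs k
      set d : ↥(qOf 3 E) := ⟨⁅(e : G), (a : G)⁆, comm_rOf S.hblk e.2 (hR2R a.2)⟩ with hd
      have h2 : P (e : G) k - k = ι (S.X.crd d) := by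
        rw [hι, ← ha, sub_eq_iff_eq_add, ← hψadd]
        exact hP hen a _ (by show ⁅(e : G), (a : G)⁆ * a = _; rw [commutatorElement_def]; group)
      rw [h2, ← hπι, ← h2, map_sub, hcomm, hk0, map_zero, sub_zero]
    show P (e : G) u = u + (L _ u - π0 u)
    rw [hLapp, ← h1, hpr, show P (e : G) u = P (e : G) (π0 u) + P (e : G) k by rw [← map_add, hk, add_sub_cancel],
      sub_eq_zero.1 hd, hk]
    abel
  -- transport
  let J : Type u := {c : G // c ∈ C}
  let T : G → AddMonoid.End V → AddMonoid.End V := fun c x => P c * x * P c⁻¹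
  have hTmul : ∀ {c}, c ∈ C → ∀ x y, T c x * T c y = T c (x * y) := fun {c} hc x y => by
    show P c * x * P c⁻¹ * (P c * y * P c⁻¹) = P c * (x * y) * P c⁻¹
    calc P c * x * P c⁻¹ * (P c * y * P c⁻¹) = P c * x * (P c⁻¹ * P c) * y * P c⁻¹ := by noncomm_ring
      _ = _ := by rw [(hPinv (hCn c hc)).2]; noncomm_ring
  have hTone : ∀ {c}, c ∈ C → T c 1 = 1 := fun {c} hc => by
    show P c * 1 * P c⁻¹ = 1
    rw [mul_one, (hPinv (hCn c hc)).1]
  have hTT : ∀ {c}, c ∈ C → ∀ x, T c (T c⁻¹ x) = x ∧ T c⁻¹ (T c x) = x := fun {c} hc x => by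
    have h1 := hPinv (hCn c hc)
    constructor
    · show P c * (P c⁻¹ * x * P c⁻¹⁻¹) * P c⁻¹ = x
      rw [inv_inv]
      calc P c * (P c⁻¹ * x * P c) * P c⁻¹ = (P c * P c⁻¹) * x * (P c * P c⁻¹) := by noncomm_ring
        _ = x := by rw [h1.1, one_mul, mul_one]
    · show P c⁻¹ * (P c * x * P c⁻¹) * P c⁻¹⁻¹ = x
      rw [inv_inv]
      calc P c⁻¹ * (P c * x * P c⁻¹) * P c = (P c⁻¹ * P c) * x * (P c⁻¹ * P c) := by noncomm_ring
        _ = x := by rw [h1.2, one_mul, mul_one]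
  let π : J → AddMonoid.End V := fun c => T c.1 π0
  let Γ : J → AddMonoid.End V → AddMonoid.End V → Prop := fun c e e' =>
    ∃ g : SL(2, K), g ∈ S.X.ρ'.range ∧ e = T c.1 (L (g : Matrix (Fin 2) (Fin 2) K)) ∧
      e' = T c.1 (L ((g⁻¹ : SL(2, K)) : Matrix (Fin 2) (Fin 2) K))
  have hTsub : ∀ c x y, T c (x - y) = T c x - T c y := fun c x y => by
    show P c * (x - y) * P c⁻¹ = _; rw [mul_sub, sub_mul]
  have hTadd : ∀ c x y, T c (x + y) = T c x + T c y := fun c x y => by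
    show P c * (x + y) * P c⁻¹ = _; rw [mul_add, add_mul]
  have hcompanion : ∀ lam : K, lam ≠ 0 → lam ≠ 1 →
      ∃ g : SL(2, K), g ∈ S.X.ρ'.range ∧ ((1 - lam) • (1 : Matrix (Fin 2) (Fin 2) K)) *
        (1 + 1 - (g : Matrix (Fin 2) (Fin 2) K) - ((g⁻¹ : SL(2, K)) : Matrix (Fin 2) (Fin 2) K)) = lam⁻¹ • 1 := by
    intro lam h0 h1
    have h1' : (1 : K) - lam ≠ 0 := sub_ne_zero.2 (Ne.symm h1)
    by_cases h4 : 4 ≤ Fintype.card K
    · set τ := (2 : K) - (lam * (1 - lam))⁻¹ with hτ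
      let g : SL(2, K) := ⟨!![0, -1; 1, τ], by simp [det_fin_two]⟩
      refine ⟨g, by rw [S.X.range', Cfsg.Lib.Known.sl2_commutator_eq_top K h4]; exact mem_top g, ?_⟩
      have e : (1 + 1 - (g : Matrix (Fin 2) (Fin 2) K) - ((g⁻¹ : SL(2, K)) : Matrix (Fin 2) (Fin 2) K))
          = ((lam * (1 - lam))⁻¹) • 1 := by
        rw [Matrix.SpecialLinearGroup.coe_inv]
        simp only [g, Matrix.adjugate_fin_two]
        ext i j
        fin_cases i <;> fin_cases j <;> simp <;> rw [hτ] <;> field_simp <;> ring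
      rw [e, Matrix.smul_mul, Matrix.one_mul, smul_smul]
      congr 1
      field_simp
    · obtain ⟨hq, hp⟩ := S.X.D.small_card h4
      obtain ⟨n, hn⟩ := natCast_surj (K := K) (by rw [hp]; norm_num) lam
      have hlam : lam = -1 := by
        have h3 := S.three_zero
        have key : ∀ n : ℕ, (n : K) = 0 ∨ (n : K) = 1 ∨ (n : K) = -1 := by
          intro n
          induction n with
          | zero => exact Or.inl Nat.cast_zero
          | succ n ih =>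
            rcases ih with h | h | h <;> simp only [Nat.cast_succ, h]
            · exact Or.inr (Or.inl (zero_add 1))
            · exact Or.inr (Or.inr (by linear_combination h3))
            · exact Or.inl (neg_add_cancel 1)
        rcases key n with h | h | h <;> rw [hn] at h
        exacts [absurd h h0, absurd h h1, h]
      refine ⟨-1, ?_, ?_⟩
      · rw [S.X.range']; exact neg_one_mem_commutator (by rw [S.X.D.ringChar_eq]; norm_num)
      · rw [inv_neg, inv_one, hlam]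
        ext i j
        fin_cases i <;> fin_cases j <;> simp [Matrix.mul_apply, Fin.sum_univ_two]
        all_goals linear_combination (3 : K) * S.three_zero
  have hsys : PlaneSys π SA Γ :=
    { three := three
      idem := fun c => by rw [hTmul c.2, hidem]
      sa := fun c => hSAc c.2 _ hSAπ
      sa_conj := hSA
      orth := fun c d h => by
        set g := c.1⁻¹ * d.1 with hg
        have hgC : g ∈ C := mul_mem (inv_mem c.2) d.2
        have h1 : π0 * T g π0 = 0 := by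
          have e : T c.1⁻¹ (π d) = T g π0 := by
            show P c.1⁻¹ * (P d.1 * π0 * P d.1⁻¹) * P c.1⁻¹⁻¹ = P g * π0 * P g⁻¹
            rw [inv_inv, hg, _root_.mul_inv_rev, inv_inv, hPmul (hCn _ (inv_mem c.2)) (hCn _ d.2),
              hPmul (hCn _ (inv_mem d.2)) (hCn _ c.2)]
            noncomm_ring
          have h' : T c.1⁻¹ (π c) * T c.1⁻¹ (π d) = 0 := by
            rw [hTmul (inv_mem c.2), h]
            show P c.1⁻¹ * 0 * P c.1⁻¹⁻¹ = 0
            rw [mul_zero, zero_mul]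
          rwa [(hTT c.2 π0).2, e] at h'
        refine S.orth_false hgC fun q hq q' hq' => ?_
        have hR : g * q' * g⁻¹ ∈ R2 := hmemR2 hgC hq'
        have hu : T g π0 (ψ ⟨_, hR⟩) = ψ ⟨_, hR⟩ := by
          have e1 : P g (ψ ⟨q', hQR2 hq'⟩) = ψ ⟨_, hR⟩ := hP (hCn g hgC) _ _ rfl
          have e2 : P g⁻¹ (ψ ⟨_, hR⟩) = ψ ⟨q', hQR2 hq'⟩ :=
            hP (hCn _ (inv_mem hgC)) _ _ (by show q' = g⁻¹ * (g * q' * g⁻¹) * g⁻¹⁻¹; group)
          show P g (π0 (P g⁻¹ (ψ ⟨_, hR⟩))) = _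
          rw [e2, ← hι ⟨q', hq'⟩, hπι, hι, e1]
        have h2 : π0 (ψ ⟨_, hR⟩) = 0 := by
          rw [← hu]; exact DFunLike.congr_fun h1 _
        refine (S.nu_eq_one (hcW ⟨q, hQR2 hq⟩ ⟨_, hR⟩)).1 ?_
        rw [← hμ, ← hι ⟨q, hq⟩, ← hπι, hSAπ, h2, hμzero']
      corner := by
        rintro c _ _ ⟨g, hg, rfl, rfl⟩
        refine ⟨?_, ?_, ?_, ?_, ?_, ?_⟩ <;> rw [hTmul c.2] <;> congr 1 <;>
          simp only [← hL1, hLmul, Matrix.one_mul, Matrix.mul_one, ← Matrix.SpecialLinearGroup.coe_mul,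
            mul_inv_cancel, inv_mul_cancel, Matrix.SpecialLinearGroup.coe_one]
      neg := fun c => by
        refine ⟨-1, by rw [S.X.range']; exact neg_one_mem_commutator (by rw [S.X.D.ringChar_eq]; norm_num), ?_, ?_⟩
        all_goals
          show -(P c.1 * π0 * P c.1⁻¹) = P c.1 * L _ * P c.1⁻¹
          rw [← hL1]
          simp only [inv_neg, inv_one, Matrix.SpecialLinearGroup.coe_neg, Matrix.SpecialLinearGroup.coe_one]
          rw [hLneg, mul_neg, neg_mul]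
      closed := by
        rintro c _ _ j ⟨g, ⟨e0, rfl⟩, rfl, rfl⟩
        have hc := hCn _ c.2
        have he := hEn _ e0.2
        have hj := hCn _ j.2
        set x := c.1 * (e0 : G) * c.1⁻¹ with hx
        have hxn := mul_mem (mul_mem hc he) (inv_mem hc)
        have hPx : P x = 1 + (T c.1 (L (S.X.ρ' e0 : Matrix (Fin 2) (Fin 2) K)) - π c) := by
          rw [hx, hPmul (mul_mem hc he) (inv_mem hc), hPmul hc he, hPE]
          show _ = 1 + (T c.1 _ - T c.1 π0)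
          rw [← hTsub]
          conv_rhs => rw [← hTone c.2, ← hTadd]
        have hPx' : P x⁻¹ = 1 + (T c.1 (L ((S.X.ρ' e0)⁻¹ : SL(2, K))) - π c) := by
          rw [hx, show (c.1 * (e0 : G) * c.1⁻¹)⁻¹ = c.1 * ((e0⁻¹ : ↥E) : G) * c.1⁻¹ by
            rw [Subgroup.coe_inv]; group, hPmul (mul_mem hc (hEn _ (e0⁻¹).2)) (inv_mem hc),
            hPmul hc (hEn _ (e0⁻¹).2), hPE, map_inv]
          show _ = 1 + (T c.1 _ - T c.1 π0)
          rw [← hTsub]
          conv_rhs => rw [← hTone c.2, ← hTadd]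
        have hk : x * j.1 * (e0 : G)⁻¹ ∈ C := by
          rw [hx, show c.1 * (e0 : G) * c.1⁻¹ * j.1 * (e0 : G)⁻¹
            = c.1 * ((e0 : G) * (c.1⁻¹ * j.1) * (e0 : G)⁻¹) by group]
          exact mul_mem c.2 (conj_cOf (hEH e0.2) (mul_mem (inv_mem c.2) j.2))
        refine ⟨⟨_, hk⟩, ?_⟩
        rw [← hPx, ← hPx']
        show P (x * j.1 * (e0 : G)⁻¹) * π0 * P (x * j.1 * (e0 : G)⁻¹)⁻¹ = P x * (P j.1 * π0 * P j.1⁻¹) * P x⁻¹
        have hcm : P (e0 : G)⁻¹ * π0 * P (e0 : G) = π0 := by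
          have e1 : π0 * P (e0 : G) = P (e0 : G) * π0 := by
            simp only [hPE, ← hL1, mul_add, add_mul, mul_sub, sub_mul, hLmul, mul_one, one_mul, Matrix.one_mul,
              Matrix.mul_one]
          rw [mul_assoc, e1, ← mul_assoc, (hPinv he).2, one_mul]
        rw [show (x * j.1 * (e0 : G)⁻¹)⁻¹ = (e0 : G) * (j.1⁻¹ * x⁻¹) by group,
          hPmul (mul_mem hxn hj) (inv_mem he), hPmul hxn hj, hPmul he (mul_mem (inv_mem hj) (inv_mem hxn)),
          hPmul (inv_mem hj) (inv_mem hxn)]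
        calc P x * P j.1 * P (e0 : G)⁻¹ * π0 * (P (e0 : G) * (P j.1⁻¹ * P x⁻¹))
            = P x * P j.1 * (P (e0 : G)⁻¹ * π0 * P (e0 : G)) * (P j.1⁻¹ * P x⁻¹) := by noncomm_ring
          _ = _ := by rw [hcm]; noncomm_ring
      scalar := by
        intro c X hX hXc
        set X0 := T c.1⁻¹ X with hX0
        have hX0SA : SA X0 := hSAc (inv_mem c.2) X hX
        have hX0c : π0 * X0 * π0 = X0 := by
          rw [hX0]
          conv_rhs => rw [← hXc]
          rw [← hTmul (inv_mem c.2), ← hTmul (inv_mem c.2), (hTT c.2 π0).2]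
        let t : (Fin 2 → K) → (Fin 2 → K) := fun v => pr (X0 (ι v))
        have ht : ∀ u, X0 u = ι (t (pr u)) := fun u => by
          show X0 u = ι (pr (X0 (ι (pr u))))
          rw [hpr, hpr]
          exact (DFunLike.congr_fun hX0c u).symm
        have hπX : ∀ v, π0 (X0 v) = X0 v := fun v => by rw [ht, hπι]
        have hself : ∀ v w, det2 (t v) w = det2 v (t w) := fun v w => S.phi_injective (by
          rw [← hμι, ← hμι]
          show μ (ι (pr (X0 (ι v)))) (ι w) = μ (ι v) (ι (pr (X0 (ι w))))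
          rw [hpr, hpr, hπX, hπX, hX0SA])
        obtain ⟨lam, hlam⟩ : ∃ lam : K, ∀ v, t v = lam • v := by
          have hsm : ∀ (s : K) v, t (s • v) = s • t v := by
            intro s v
            have key : ∀ w, det2 w (t (s • v) - s • t v) = 0 := fun w => by
              have h1 := hself w (s • v)
              have h2 := hself w v
              simp only [det2, Pi.smul_apply, Pi.sub_apply, smul_eq_mul] at h1 h2 ⊢
              linear_combination s * h2 - h1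
            exact sub_eq_zero.1 (eq_zero_of_det2 key)
          have hta : ∀ v w, t (v + w) = t v + t w := fun v w => by
            show pr (X0 (ι (v + w))) = _
            rw [hιadd, map_add, hpradd]
          have h00 := hself ![1, 0] ![1, 0]
          have h11 := hself ![0, 1] ![0, 1]
          have h01 := hself ![1, 0] ![0, 1]
          simp [det2] at h00 h11 h01
          have a10 : t ![1, 0] 1 = 0 := (mul_eq_zero.1
            (show (2 : K) * t ![1, 0] 1 = 0 by linear_combination -h00)).resolve_left S.two_ne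
          have a01 : t ![0, 1] 0 = 0 := (mul_eq_zero.1
            (show (2 : K) * t ![0, 1] 0 = 0 by linear_combination h11)).resolve_left S.two_ne
          refine ⟨t ![1, 0] 0, fun v => ?_⟩
          rw [show v = v 0 • ![1, 0] + v 1 • ![0, 1] by funext i; fin_cases i <;> simp, hta, hsm, hsm]
          funext i
          fin_cases i
          · simp [a01]; ring
          · simp [a10, ← h01]; ring
        have hXL : X0 = L (lam • 1) := DFunLike.ext _ _ fun u => by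
          rw [hLapp, ht, hlam, Matrix.smul_mulVec, one_mulVec]
        have hX' : X = T c.1 (L (lam • 1)) := by rw [← hXL, hX0, (hTT c.2 X).1]
        by_cases h0 : lam = 0
        · left
          rw [hX', h0, zero_smul]
          show P c.1 * L 0 * P c.1⁻¹ = 0
          rw [show L 0 = 0 from DFunLike.ext _ _ fun u => by rw [hLapp, Matrix.zero_mulVec, hι0]; rfl,
            mul_zero, zero_mul]
        by_cases h1 : lam = 1
        · right; left
          rw [hX', h1, one_smul, hL1]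
        right; right
        obtain ⟨g, hg, hgeq⟩ := hcompanion lam h0 h1
        refine ⟨?_, T c.1 (L (lam⁻¹ • 1)), hSAc c.2 _ ?_, ?_, ?_, ?_, _, _, ⟨g, hg, rfl, rfl⟩, ?_⟩
        · rintro _ _ ⟨h, -, rfl, -⟩
          rw [hX', hTmul c.2, hTmul c.2, hLmul, hLmul, Matrix.smul_mul, Matrix.mul_smul, Matrix.one_mul,
            Matrix.mul_one]
        · intro u v
          have hmov : ∀ x y, μ (ι x) y = μ (ι x) (ι (pr y)) := fun x y => by
            rw [hpr, ← hSAπ, hπι]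
          have e : ∀ w, (lam⁻¹ • (1 : Matrix (Fin 2) (Fin 2) K)) *ᵥ w = lam⁻¹ • w := fun w => by
            rw [Matrix.smul_mulVec, one_mulVec]
          have e2 : μ u (ι (lam⁻¹ • pr v)) = μ (ι (pr u)) (ι (lam⁻¹ • pr v)) := by
            rw [hμswap (ι (lam⁻¹ • pr v)) u, hmov, ← hμswap]
          rw [hLapp, hLapp, e, e, hmov, e2, hμι, hμι]
          congr 1
          simp [det2]; ring
        · show T c.1 π0 * _ * T c.1 π0 = _
          rw [← hL1, hTmul c.2, hTmul c.2, hLmul, hLmul, Matrix.one_mul, Matrix.mul_one]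
        · rw [hX', hTmul c.2, hLmul, Matrix.smul_mul, Matrix.one_mul, smul_smul, mul_inv_cancel₀ h0, one_smul, hL1]
        · rw [hX', hTmul c.2, hLmul, Matrix.smul_mul, Matrix.one_mul, smul_smul, inv_mul_cancel₀ h0, one_smul, hL1]
        · rw [hX']
          show (T c.1 π0 - T c.1 (L (lam • 1))) * (T c.1 π0 + T c.1 π0 - T c.1 _ - T c.1 _) = _
          rw [← hTsub, ← hTadd, ← hTsub, ← hTsub, hTmul c.2, ← hgeq, ← hL1]
          congr 1
          have hLsub : ∀ M N, L (M - N) = L M - L N := fun M N => by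
            rw [sub_eq_add_neg, hLadd, hLneg, ← sub_eq_add_neg]
          rw [← hLadd, ← hLsub, ← hLsub, ← hLsub, hLmul, sub_smul, one_smul]
      quat := by
        intro c
        have h30 := S.three_zero
        let j : SL(2, K) := ⟨!![1, 1; 1, -1], by simp [det_fin_two]; linear_combination -h30⟩
        have hmem : (Line.wel : SL(2, K)) ∈ S.X.ρ'.range ∧ j ∈ S.X.ρ'.range := by
          by_cases h4 : 4 ≤ Fintype.card K
          · rw [S.X.range', Cfsg.Lib.Known.sl2_commutator_eq_top K h4]; exact ⟨mem_top _, mem_top _⟩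
          · obtain ⟨hw, j', hj', hjr⟩ := S.X.wel_j ((S.X.D.small_card h4).2)
            exact ⟨hw, (Subtype.ext hj' : j' = j) ▸ hjr⟩
        refine ⟨_, _, _, _, ⟨_, hmem.1, rfl, rfl⟩, ⟨_, hmem.2, rfl, rfl⟩, ⟨_, mul_mem hmem.1 hmem.2, ?_, ?_⟩, ?_⟩
        · rw [hTmul c.2, hLmul, Matrix.SpecialLinearGroup.coe_mul]
        · rw [hTmul c.2, hLmul, _root_.mul_inv_rev, Matrix.SpecialLinearGroup.coe_mul]
        · rw [hTmul c.2, hTmul c.2, hLmul, hLmul]
          show P c.1 * L _ * P c.1⁻¹ = -(P c.1 * L _ * P c.1⁻¹)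
          rw [← neg_mul, ← mul_neg, ← hLneg]
          congr 3
          rw [Matrix.SpecialLinearGroup.coe_inv, Matrix.SpecialLinearGroup.coe_inv]
          simp only [Line.wel, j, Matrix.adjugate_fin_two]
          ext a b
          fin_cases a <;> fin_cases b <;> simp [Matrix.mul_apply, Fin.sum_univ_two] }
  -- the products of two reflections form a `3`-group
  let o : J := ⟨1, one_mem C⟩
  have hπo : π o = π0 := by show P 1 * π0 * P 1⁻¹ = π0; rw [inv_one, hPone, one_mul, mul_one]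
  have hgen : ∀ c (hc : c ∈ C), P (c * S.z * c⁻¹ * S.z) = (1 + π ⟨c, hc⟩) * (1 + π o) := by
    intro c hc
    have hc' := hCn c hc
    rw [hπo, hPmul (mul_mem (mul_mem hc' hzn) (inv_mem hc')) hzn, hPmul (mul_mem hc' hzn) (inv_mem hc'),
      hPmul hc' hzn]
    have hz1 : (1 : AddMonoid.End V) + π0 = P S.z := by rw [hπ0]; abel
    show _ = (1 + T c π0) * (1 + π0)
    rw [hz1]
    conv_rhs => rw [← hTone hc, ← hTadd, hz1]
  have hWz : ∀ y ∈ wOf 3 E, ⁅S.z, y⁆ ∈ w1Of 3 E := fun y hy =>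
    comm_mem_w1 hE S.zE S.exists_z.choose_spec.2.1 (by
      rw [commutatorElement_def]; exact mul_mem (conj_wOf (le_normalizer S.zE) hy) (inv_mem hy))
  have hH1 : ∀ {g}, g ∈ hOf 3 E → ∀ u ∈ w1Of 3 E, g * u * g⁻¹ ∈ w1Of 3 E := fun hg u hu =>
    Cfsg.Lib.Large.conj_mem' _ hg hu
  let Ls : Submonoid G :=
    { carrier := {g | g ∈ C ∧ UniAct π o (P g) ∧ (∀ r ∈ rOf 3 E, ⁅g, r⁆ ∈ R2) ∧ ∀ y ∈ wOf 3 E, ⁅g, y⁆ ∈ w1Of 3 E}
      one_mem' := ⟨one_mem _, by rw [hPone]; exact UniAct.one o, fun r _ => by simp [one_mem],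
        fun r _ => by simp [one_mem]⟩
      mul_mem' := by
        rintro a b ⟨ha, ha1, ha2, ha3⟩ ⟨hb, hb1, hb2, hb3⟩
        refine ⟨mul_mem ha hb, ?_, fun r hr => ?_, fun r hr => ?_⟩
        · rw [hPmul (hCn a ha) (hCn b hb)]; exact ha1.mul hb1
        · rw [show ⁅a * b, r⁆ = a * ⁅b, r⁆ * a⁻¹ * ⁅a, r⁆ by simp only [commutatorElement_def]; group]
          exact mul_mem ((mem_normalizer_iff.1 (mem_inf.1 (hCn a ha)).1 _).1 (hb2 r hr)) (ha2 r hr)
        · rw [show ⁅a * b, r⁆ = a * ⁅b, r⁆ * a⁻¹ * ⁅a, r⁆ by simp only [commutatorElement_def]; group]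
          exact mul_mem (hH1 (centralizer_le_hOf ha) _ (hb3 r hr)) (ha3 r hr) }
  let Lg : Subgroup G :=
    { Ls with
      inv_mem' := fun {g} hg => by
        have h : g⁻¹ = g ^ (orderOf g - 1) := by
          refine inv_eq_of_mul_eq_one_left ?_
          rw [← pow_succ, Nat.sub_add_cancel (orderOf_pos g), pow_orderOf_eq_one]
        rw [h]
        exact Ls.pow_mem hg _ }
  set L0 := Subgroup.closure {g : G | ∃ c ∈ C, c * S.z * c⁻¹ * S.z = g} with hL0
  have hL0g : L0 ≤ Lg := by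
    refine (closure_le _).2 ?_
    rintro _ ⟨c, hc, rfl⟩
    have hcH := centralizer_le_hOf hc
    have hzH := hEH S.zE
    have hgC : c * S.z * c⁻¹ * S.z ∈ C := by
      have := mul_mem hc (conj_cOf hzH (inv_mem hc))
      rwa [show c * (S.z * c⁻¹ * S.z⁻¹) = c * S.z * c⁻¹ * S.z⁻¹ by group, S.z_inv] at this
    refine ⟨hgC, by rw [hgen c hc]; exact hsys.uniAct o _, fun r hr => ?_, fun y hy => ?_⟩
    · rw [show ⁅c * S.z * c⁻¹ * S.z, r⁆
        = c * ⁅S.z, c⁻¹ * (S.z * r * S.z⁻¹) * c⁻¹⁻¹⁆ * c⁻¹ * ⁅S.z, r⁆ by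
          simp only [commutatorElement_def]; group]
      exact mul_mem (hmemR2 hc (comm_rOf S.hblk S.zE (conj_rOf (inv_mem hcH) (S.eR S.zE hr))))
        (hQR2 (comm_rOf S.hblk S.zE hr))
    · rw [show ⁅c * S.z * c⁻¹ * S.z, y⁆
        = c * ⁅S.z, c⁻¹ * (S.z * y * S.z⁻¹) * c⁻¹⁻¹⁆ * c⁻¹ * ⁅S.z, y⁆ by
          simp only [commutatorElement_def]; group]
      exact mul_mem (hH1 hcH _ (hWz _ (S.conj_w (inv_mem hc) (conj_wOf (le_normalizer S.zE) hy)))) (hWz y hy)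
  have hp3 : IsPGroup 3 L0 := by
    rintro ⟨g, hg⟩
    obtain ⟨hgC, hg1, hg2, hg3⟩ := hL0g hg
    obtain ⟨h3C, h3u, h3r, h3w⟩ := pow_mem (hL0g hg) 3
    have hpowP : P (g ^ 3) = 1 := by
      rw [pow_three, hPmul (hCn g hgC) (mul_mem (hCn g hgC) (hCn g hgC)), hPmul (hCn g hgC) (hCn g hgC),
        ← pow_three]
      exact hg1.pow_three hψ3
    have h3R2 : ∀ x ∈ R2, ⁅g ^ 3, x⁆ ∈ wOf 3 E := by
      intro x hx
      have hn3 := hCn _ h3C
      have hx' := (mem_normalizer_iff.1 (mem_inf.1 hn3).1 _).1 hx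
      have h := hP hn3 ⟨x, hx⟩ ⟨_, hx'⟩ rfl
      rw [hpowP] at h
      have h2 : x⁻¹ * (g ^ 3 * x * (g ^ 3)⁻¹) ∈ wOf 3 E := (hψeq ⟨x, hx⟩ ⟨_, hx'⟩).1 h
      rw [show ⁅g ^ 3, x⁆ = x * (x⁻¹ * (g ^ 3 * x * (g ^ 3)⁻¹)) * x⁻¹ by rw [commutatorElement_def]; group,
        (S.w_comm h2 (hR2R hx)).eq, mul_inv_cancel_right]
      exact h2
    have hR2p : ∀ x ∈ R2, x ^ 3 ∈ wOf 3 E := fun x hx => by
      have h := (hψker (⟨x, hx⟩ * ⟨x, hx⟩ * ⟨x, hx⟩)).1 (by rw [hψadd, hψadd]; exact hψ3 _)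
      rw [pow_three, ← mul_assoc]
      exact h
    have h9 : ∀ r ∈ rOf 3 E, ⁅(g ^ 3) ^ 3, r⁆ ∈ wOf 3 E :=
      pow_layer h3r h3R2 (fun y hy => S.conj_w h3C hy) hR2p
    have h9L := pow_mem (pow_mem (hL0g hg) 3) 3
    have h27 : ∀ r ∈ rOf 3 E, ⁅((g ^ 3) ^ 3) ^ 3, r⁆ ∈ w1Of 3 E :=
      pow_layer h9 h9L.2.2.2 (fun u hu => hH1 (centralizer_le_hOf h9L.1) u hu)
        fun y hy => by rw [wOf_pow E hy]; exact one_mem _
    have h27C : ((g ^ 3) ^ 3) ^ 3 ∈ C := pow_mem h9L.1 3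
    have h81 : (((g ^ 3) ^ 3) ^ 3) ^ 3 ∈ rOf 3 E := mem_rOf_of_commute S.hG hE fun r hr => by
      have := pow_layer (C := (⊥ : Subgroup G)) h27
        (fun u hu => by
          rw [Subgroup.mem_bot, commutatorElement_eq_one_iff_mul_comm]; exact (mem_centralizer_iff.1 h27C u hu).symm)
        (fun y hy => by rw [Subgroup.mem_bot] at hy ⊢; simp [hy])
        (fun u hu => by rw [Subgroup.mem_bot]; exact wOf_pow E (w1_le_wOf hE hu)) r hr
      exact commutatorElement_eq_one_iff_mul_comm.1 (Subgroup.mem_bot.1 this)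
    obtain ⟨j, hj⟩ := pow_of_pgroup isPGroup_rOf h81
    refine ⟨4 + j, Subtype.ext ?_⟩
    show g ^ 3 ^ (4 + j) = 1
    rw [← hj, ← pow_mul, ← pow_mul, ← pow_mul, ← pow_mul, pow_add]
    congr 1
    ring
  have hL0C : L0 ≤ C := fun g hg => (hL0g hg).1
  have hCL0 : C ≤ normalizer (L0 : Set G) := by
    intro d hd
    refine Cfsg.Lib.Large.mem_normalizer_of_le _ ?_
    suffices h : L0 ≤ L0.comap (MulAut.conj d).toMonoidHom from fun x hx => h hx
    refine (closure_le _).2 ?_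
    rintro _ ⟨c, hc, rfl⟩
    show d * (c * S.z * c⁻¹ * S.z) * d⁻¹ ∈ L0
    have h1 : d * c * S.z * (d * c)⁻¹ * S.z ∈ L0 := subset_closure ⟨_, mul_mem hd hc, rfl⟩
    have h2 : d * S.z * d⁻¹ * S.z ∈ L0 := subset_closure ⟨_, hd, rfl⟩
    have h3 := mul_mem h1 (inv_mem h2)
    rwa [show d * c * S.z * (d * c)⁻¹ * S.z * (d * S.z * d⁻¹ * S.z)⁻¹ = d * (c * S.z * c⁻¹ * S.z⁻¹) * d⁻¹ by
      group, S.z_inv] at h3
  have hHC : hOf 3 E ≤ normalizer (C : Set G) := fun g hg =>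
    Cfsg.Lib.Large.mem_normalizer_of_le _ fun x hx => conj_cOf hg hx
  have hcore : Cfsg.pCoreOf 3 C ≤ rOf 3 E :=
    Cfsg.Lib.Large.le_pCoreOf ((map_subtype_le _).trans centralizer_le_hOf)
      ((Cfsg.Lib.Components.isPGroup_pCore 3).map _) (hHC.trans (Cfsg.Lib.Large.normalizer_pCoreOf_le C))
  have hgR : c0 * S.z * c0⁻¹ * S.z ∈ rOf 3 E :=
    hcore (Cfsg.Lib.Large.le_pCoreOf hL0C hp3 hCL0 (subset_closure ⟨c0, hc0, rfl⟩))
  have hgn : c0 * S.z * c0⁻¹ * S.z ∈ normalizer (R2 : Set G) ⊓ normalizer (wOf 3 E : Set G) :=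
    mul_mem (mul_mem (mul_mem (hCn c0 hc0) hzn) (inv_mem (hCn c0 hc0))) hzn
  have hP1 : P (c0 * S.z * c0⁻¹ * S.z) = 1 := DFunLike.ext _ _ fun v => by
    obtain ⟨a, rfl⟩ := hψs v
    rw [hP hgn a ⟨_, (mem_normalizer_iff.1 (mem_inf.1 hgn).1 _).1 a.2⟩ rfl]
    refine ((hψeq a _).2 ?_).symm
    show (a : G)⁻¹ * (c0 * S.z * c0⁻¹ * S.z * a * (c0 * S.z * c0⁻¹ * S.z)⁻¹) ∈ wOf 3 E
    rw [show (a : G)⁻¹ * (c0 * S.z * c0⁻¹ * S.z * a * (c0 * S.z * c0⁻¹ * S.z)⁻¹)
      = ⁅(a : G)⁻¹, c0 * S.z * c0⁻¹ * S.z⁆ by simp only [commutatorElement_def]; group]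
    exact hRR2 _ (inv_mem a.2) _ hgR
  have hπeq : π ⟨c0, hc0⟩ = π0 := by
    have h := hgen c0 hc0
    rw [hP1, hπo] at h
    have hz1 : (1 : AddMonoid.End V) + π0 = P S.z := by rw [hπ0]; abel
    refine add_left_cancel (a := (1 : AddMonoid.End V)) ?_
    calc 1 + π ⟨c0, hc0⟩ = (1 + π ⟨c0, hc0⟩) * ((1 + π0) * (1 + π0)) := by rw [hz1, hPzz, mul_one]
      _ = 1 + π0 := by rw [← mul_assoc, ← h, one_mul]
  -- the conjugate of the top lies in the top
  set x := c0 * q0 * c0⁻¹ with hx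
  have hxR2 : x ∈ R2 := hmemR2 hc0 hq0
  have hu : π ⟨c0, hc0⟩ (ψ ⟨x, hxR2⟩) = ψ ⟨x, hxR2⟩ := by
    have e1 : P c0 (ψ ⟨q0, hQR2 hq0⟩) = ψ ⟨x, hxR2⟩ := hP (hCn c0 hc0) _ _ rfl
    have e2 : P c0⁻¹ (ψ ⟨x, hxR2⟩) = ψ ⟨q0, hQR2 hq0⟩ :=
      hP (hCn _ (inv_mem hc0)) _ _ (by show q0 = c0⁻¹ * (c0 * q0 * c0⁻¹) * c0⁻¹⁻¹; group)
    show P c0 (π0 (P c0⁻¹ (ψ ⟨x, hxR2⟩))) = _
    rw [e2, ← hι ⟨q0, hq0⟩, hπι, hι, e1]
  rw [hπeq, hπ0ψ] at hu
  have hd := (hψeq _ _).1 hu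
  have hzx := comm_rOf S.hblk S.zE (hR2R hxR2)
  have h := mul_mem hzx (wOf_le_qOf E hd)
  rwa [mul_inv_cancel_left] at h

end Cfsg.Lib.BlockNormal
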