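/-
The centralizer of the module of a block normalizes the block.
-/
import Cfsg.Agent.BlockNormal.Reflection

set_option autoImplicit false

namespace Cfsg.Lib.BlockNormal

set_option linter.style.haveILetI false
set_option linter.unusedSectionVars false

open Subgroup Matrix Cfsg.Lib.BlockPair
open scoped commutatorElement MatrixGroups

universe u

variable {G : Type u} [Group G] [Finite G]

theorem neg_one_mem_of_normal {K : Type} [Field K] [Fintype K] {n : ℕ} [Fact (Nat.Prime 3)]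
    (hK : Fintype.card K = 3 ^ n) (h2 : (2 : K) ≠ 0) {N : Subgroup SL(2, K)}
    (hle : N ≤ commutator SL(2, K)) (hne : N ≠ ⊥)
    (hn : ∀ g ∈ commutator SL(2, K), ∀ x ∈ N, g * x * g⁻¹ ∈ N) : (-1 : SL(2, K)) ∈ N := by
  have heven : 2 ∣ Nat.card N → (-1 : SL(2, K)) ∈ N := by
    intro hd
    haveI := Fact.mk Nat.prime_two
    obtain ⟨x, hx⟩ := exists_prime_orderOf_dvd_card' (G := ↥N) 2 hd
    have h1 : (x : SL(2, K)) * x = 1 := by
      have := pow_orderOf_eq_one x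
      rw [hx, pow_two] at this
      exact congrArg Subtype.val this
    rcases sl_sq_eq_one h1 h2 with h | h
    · rw [show x = 1 from Subtype.ext h, orderOf_one] at hx
      norm_num at hx
    · exact h ▸ x.2
  by_cases h4 : 4 ≤ Fintype.card K
  · have htop := Cfsg.Lib.Known.sl2_commutator_eq_top K h4
    haveI hN : N.Normal := ⟨fun x hx g => hn g (htop ▸ mem_top g) x hx⟩
    obtain ⟨-, -, h3⟩ := (small_top hK h4).2 (by norm_num)
    rcases h3 with ⟨-, hcen⟩ | ⟨-, h8⟩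
    · by_cases hNt : N = ⊤
      · rw [hNt]; exact mem_top _
      obtain ⟨⟨g, hg⟩, hg1⟩ : ∃ x : ↥N, x ≠ 1 := by
        by_contra hno
        push Not at hno
        exact hne ((eq_bot_iff_forall _).2 fun x hx => congrArg Subtype.val (hno ⟨x, hx⟩))
      have hc := mem_center_iff.1 (hcen N hN hNt hg)
      have a1 := congrArg (fun M : SL(2, K) => (M : Matrix (Fin 2) (Fin 2) K)) (hc (Line.uni 1))
      have a2 := congrArg (fun M : SL(2, K) => (M : Matrix (Fin 2) (Fin 2) K)) (hc Line.wel)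
      simp only [Matrix.SpecialLinearGroup.coe_mul] at a1 a2
      have b00 := congrFun (congrFun a1 0) 0
      have b01 := congrFun (congrFun a1 0) 1
      have c00 := congrFun (congrFun a2 0) 0
      simp [Line.uni, Line.wel, Matrix.mul_apply, Fin.sum_univ_two] at b00 b01 c00
      have hdet : (g : Matrix (Fin 2) (Fin 2) K).det = 1 := g.2
      rw [det_fin_two] at hdet
      have g10 : (g : Matrix (Fin 2) (Fin 2) K) 1 0 = 0 := by linear_combination b00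
      have g11 : (g : Matrix (Fin 2) (Fin 2) K) 1 1 = (g : Matrix (Fin 2) (Fin 2) K) 0 0 := by linear_combination b01
      have g01 : (g : Matrix (Fin 2) (Fin 2) K) 0 1 = 0 := by linear_combination -c00 - g10
      rw [g10, g11, mul_zero, sub_zero] at hdet
      rcases mul_self_eq_one_iff.1 hdet with h | h
      · refine absurd (Subtype.ext (Subtype.ext ?_)) hg1
        ext a b; fin_cases a <;> fin_cases b <;> simp [g10, g11, g01, h]
      · convert hg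
        ext a b; fin_cases a <;> fin_cases b <;> simp [g10, g11, g01, h]
    · refine heven ?_
      have hd := Subgroup.card_subgroup_dvd_card N
      rw [h8, show (8 : ℕ) = 2 ^ 3 from rfl, Nat.dvd_prime_pow Nat.prime_two] at hd
      obtain ⟨k, -, hk⟩ := hd
      rcases k with _ | k
      · exact absurd (card_eq_one.1 (by rw [hk, pow_zero])) hne
      · exact hk ▸ dvd_pow_self 2 k.succ_ne_zero
  · have h1 := Fintype.one_lt_card (α := K)
    have h3 : Fintype.card K = 3 := by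
      have hq : Fintype.card K = 2 ∨ Fintype.card K = 3 := by omega
      rcases hq with hq | hq
      · exfalso
        rw [hq] at hK
        rcases n with _ | n
        · norm_num at hK
        · rw [pow_succ] at hK; omega
      · exact hq
    have h8 : Nat.card ↥(commutator SL(2, K)) = 8 := by
      have h := (commutator SL(2, K)).card_mul_index
      rw [index_commutator_small (Or.inr h3), Cfsg.Lib.Classical.SLTwoTori.card_SL2, h3] at h
      omega
    refine heven ?_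
    have hd := card_dvd_of_le hle
    rw [h8, show (8 : ℕ) = 2 ^ 3 from rfl, Nat.dvd_prime_pow Nat.prime_two] at hd
    obtain ⟨k, -, hk⟩ := hd
    rcases k with _ | k
    · exact absurd (card_eq_one.1 (by rw [hk, pow_zero])) hne
    · exact hk ▸ dvd_pow_self 2 k.succ_ne_zero

section

variable [Fact (Nat.Prime 3)] {E : Subgroup G} {K : Type} [Field K] [Fintype K] (S : Ex E K)
include S

theorem Ex.comm_w1 {e y : G} (he : e ∈ E) (hy : y ∈ wOf 3 E) : ⁅e, y⁆ ∈ w1Of 3 E := by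
  obtain ⟨a, ha, z0, hz0, rfl⟩ := decompose S.isBlk hy
  have hc : Commute e z0 := mem_centralizer_iff.1 (mem_inf.1 hz0).2 e he
  rw [show ⁅e, a * z0⁆ = (e * a * e⁻¹) * (e * z0 * e⁻¹) * z0⁻¹ * a⁻¹ by rw [commutatorElement_def]; group, hc.eq,
    mul_inv_cancel_right, mul_inv_cancel_right]
  exact mul_mem (conj_w1_self S.isBlk (le_normalizer he) ha) (inv_mem ha)

theorem Ex.normalizes {c : G} (hc : c ∈ centralizer (w1Of 3 E : Set G)) : c ∈ normalizer (E : Set G) := by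
  classical
  have hE := S.isBlk
  have hcH := centralizer_le_hOf hc
  have hci := inv_mem hc
  have hH1 : ∀ {g}, g ∈ hOf 3 E → ∀ u ∈ w1Of 3 E, g * u * g⁻¹ ∈ w1Of 3 E := fun hg u hu =>
    Cfsg.Lib.Large.conj_mem' _ hg hu
  have hEH : ∀ {e}, e ∈ E → e ∈ hOf 3 E := fun he => normalizer_le_hOf hE (le_normalizer he)
  have hcZ : ∀ {d}, d ∈ centralizer (w1Of 3 E : Set G) → ∀ y ∈ zOf 3 E, d * y * d⁻¹ ∈ zOf 3 E := by
    intro d hd
    suffices h : zOf 3 E ≤ (zOf 3 E).comap (MulAut.conj d).toMonoidHom from fun y hy => h hy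
    conv_lhs => rw [← S.X.comm]
    rw [commutator_le]
    intro a ha b hb
    show d * ⁅a, b⁆ * d⁻¹ ∈ zOf 3 E
    rw [show d * ⁅a, b⁆ * d⁻¹ = ⁅d * a * d⁻¹, d * b * d⁻¹⁆ by simp only [commutatorElement_def]; group]
    exact S.qq (S.normalizes_top hd ha) (S.normalizes_top hd hb)
  -- elements trivial on all layers
  let Mh : Subgroup G :=
    { carrier := {h | h ∈ hOf 3 E ∧ (∀ r ∈ rOf 3 E, ⁅h, r⁆ ∈ qOf 3 E) ∧ (∀ q ∈ qOf 3 E, ⁅h, q⁆ ∈ wOf 3 E) ∧
        ∀ y ∈ wOf 3 E, ⁅h, y⁆ ∈ w1Of 3 E}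
      one_mem' := ⟨one_mem _, fun r _ => by simp [one_mem], fun r _ => by simp [one_mem],
        fun r _ => by simp [one_mem]⟩
      mul_mem' := by
        rintro a b ⟨ha, ha1, ha2, ha3⟩ ⟨hb, hb1, hb2, hb3⟩
        have hW : ∀ y ∈ wOf 3 E, a * y * a⁻¹ ∈ wOf 3 E := fun y hy => by
          rw [show a * y * a⁻¹ = ⁅a, y⁆ * y by rw [commutatorElement_def]; group]
          exact mul_mem (w1_le_wOf hE (ha3 y hy)) hy
        have hQ : ∀ q ∈ qOf 3 E, a * q * a⁻¹ ∈ qOf 3 E := fun q hq => by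
          rw [show a * q * a⁻¹ = ⁅a, q⁆ * q by rw [commutatorElement_def]; group]
          exact mul_mem (wOf_le_qOf E (ha2 q hq)) hq
        refine ⟨mul_mem ha hb, fun r hr => ?_, fun r hr => ?_, fun r hr => ?_⟩ <;>
          rw [show ⁅a * b, r⁆ = a * ⁅b, r⁆ * a⁻¹ * ⁅a, r⁆ by simp only [commutatorElement_def]; group]
        · exact mul_mem (hQ _ (hb1 r hr)) (ha1 r hr)
        · exact mul_mem (hW _ (hb2 r hr)) (ha2 r hr)
        · exact mul_mem (hH1 ha _ (hb3 r hr)) (ha3 r hr)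
      inv_mem' := by
        rintro a ⟨ha, ha1, ha2, ha3⟩
        have ha' := inv_mem ha
        have hW : ∀ y ∈ wOf 3 E, a⁻¹ * y * a⁻¹⁻¹ ∈ wOf 3 E := fun y hy => by
          have hsub : ∀ y ∈ wOf 3 E, a * y * a⁻¹ ∈ wOf 3 E := fun y hy => by
            rw [show a * y * a⁻¹ = ⁅a, y⁆ * y by rw [commutatorElement_def]; group]
            exact mul_mem (w1_le_wOf hE (ha3 y hy)) hy
          exact Cfsg.Lib.Large.conj_mem' _ (inv_mem (Cfsg.Lib.Large.mem_normalizer_of_le _ hsub)) hy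
        have hQ : ∀ q ∈ qOf 3 E, a⁻¹ * q * a⁻¹⁻¹ ∈ qOf 3 E := fun q hq => by
          have hsub : ∀ y ∈ qOf 3 E, a * y * a⁻¹ ∈ qOf 3 E := fun y hy => by
            rw [show a * y * a⁻¹ = ⁅a, y⁆ * y by rw [commutatorElement_def]; group]
            exact mul_mem (wOf_le_qOf E (ha2 y hy)) hy
          exact Cfsg.Lib.Large.conj_mem' _ (inv_mem (Cfsg.Lib.Large.mem_normalizer_of_le _ hsub)) hq
        refine ⟨ha', fun r hr => ?_, fun r hr => ?_, fun r hr => ?_⟩ <;>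
          rw [show ⁅a⁻¹, r⁆ = a⁻¹ * ⁅a, r⁆⁻¹ * a⁻¹⁻¹ by simp only [commutatorElement_def]; group]
        · exact hQ _ (inv_mem (ha1 r hr))
        · exact hW _ (inv_mem (ha2 r hr))
        · exact hH1 ha' _ (inv_mem (ha3 r hr)) }
  have hMconj : ∀ y ∈ normalizer (E : Set G), ∀ h ∈ Mh, y * h * y⁻¹ ∈ Mh := by
    rintro y hy h ⟨hh, h1, h2, h3⟩
    have hyH := normalizer_le_hOf hE hy
    refine ⟨mul_mem (mul_mem hyH hh) (inv_mem hyH), fun r hr => ?_, fun r hr => ?_, fun r hr => ?_⟩ <;>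
      rw [show ⁅y * h * y⁻¹, r⁆ = y * ⁅h, y⁻¹ * r * y⁻¹⁻¹⁆ * y⁻¹ by simp only [commutatorElement_def]; group]
    · exact conj_qOf hy (h1 _ (conj_rOf (inv_mem hyH) hr))
    · exact conj_wOf hy (h2 _ (conj_qOf (inv_mem hy) hr))
    · exact hH1 hyH _ (h3 _ (conj_wOf (inv_mem hy) hr))
  have hQM : ∀ q ∈ qOf 3 E, q ∈ Mh := fun q hq => ⟨hEH (qOf_le E hq),
    fun r hr => wOf_le_qOf E (S.qr hq hr), fun q' hq' => (mem_inf.1 (S.qq hq hq')).1, fun y hy => by
      rw [commutatorElement_eq_one_iff_mul_comm.2 (S.w_comm hy (S.top hq)).eq]; exact one_mem _⟩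
  have hQC : ∀ q ∈ qOf 3 E, q ∈ centralizer (w1Of 3 E : Set G) := fun q hq =>
    mem_centralizer_iff.2 fun u hu => (S.w1_comm hu (S.top hq)).eq.symm
  set Kst := Mh ⊓ centralizer (w1Of 3 E : Set G) with hKst
  have hKp : IsPGroup 3 Kst := by
    rintro ⟨g, hg⟩
    obtain ⟨hgM, hgC⟩ := mem_inf.1 hg
    obtain ⟨hgH, g1, g2, g3⟩ := id hgM
    have hW : ∀ y ∈ wOf 3 E, g * y * g⁻¹ ∈ wOf 3 E := fun y hy => by
      rw [show g * y * g⁻¹ = ⁅g, y⁆ * y by rw [commutatorElement_def]; group]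
      exact mul_mem (w1_le_wOf hE (g3 y hy)) hy
    have h3 : ∀ r ∈ rOf 3 E, ⁅g ^ 3, r⁆ ∈ wOf 3 E := pow_layer g1 g2 hW fun q hq => S.q_cube hq
    have h3M := pow_mem hgM 3
    have h9 : ∀ r ∈ rOf 3 E, ⁅(g ^ 3) ^ 3, r⁆ ∈ w1Of 3 E :=
      pow_layer h3 h3M.2.2.2 (fun u hu => hH1 (pow_mem hgH 3) u hu)
        fun y hy => by rw [wOf_pow E hy]; exact one_mem _
    have h9C : (g ^ 3) ^ 3 ∈ centralizer (w1Of 3 E : Set G) := pow_mem (pow_mem hgC 3) 3
    have h27 : ((g ^ 3) ^ 3) ^ 3 ∈ rOf 3 E := mem_rOf_of_commute S.hG hE fun r hr => by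
      have := pow_layer (C := (⊥ : Subgroup G)) h9
        (fun u hu => by
          rw [Subgroup.mem_bot, commutatorElement_eq_one_iff_mul_comm]; exact (mem_centralizer_iff.1 h9C u hu).symm)
        (fun y hy => by rw [Subgroup.mem_bot] at hy ⊢; simp [hy])
        (fun u hu => by rw [Subgroup.mem_bot]; exact wOf_pow E (w1_le_wOf hE hu)) r hr
      exact commutatorElement_eq_one_iff_mul_comm.1 (Subgroup.mem_bot.1 this)
    obtain ⟨j, hj⟩ := pow_of_pgroup isPGroup_rOf h27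
    refine ⟨3 + j, Subtype.ext ?_⟩
    show g ^ 3 ^ (3 + j) = 1
    rw [← hj, ← pow_mul, ← pow_mul, ← pow_mul, pow_add]
    congr 1
    ring
  have hKn : ∀ y ∈ normalizer (E : Set G), y ∈ normalizer (Kst : Set G) := fun y hy =>
    Cfsg.Lib.Large.mem_normalizer_of_le _ fun k hk => mem_inf.2
      ⟨hMconj y hy k (mem_inf.1 hk).1, conj_cOf (normalizer_le_hOf hE hy) (mem_inf.1 hk).2⟩
  refine conclude S.hblk hKp
    (fun b hb => hKn b (Cfsg.Lib.BlockBasic.baumann_le_normalizer S.hblk.2.1 hb))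
    (fun e he => hKn e (le_normalizer he)) fun e he hco => ?_
  set g := c * e * c⁻¹ with hg
  have hgH : g ∈ hOf 3 E := mul_mem (mul_mem hcH (hEH he)) (inv_mem hcH)
  have hgq : ∀ {n : ℕ} {q : G}, q ∈ qOf 3 E → g ^ n * q * (g ^ n)⁻¹ ∈ qOf 3 E := by
    intro n q hq
    have h := S.normalizes_top hc (conj_qOf (le_normalizer (pow_mem he n)) (S.normalizes_top hci hq))
    rw [show c * (e ^ n * (c⁻¹ * q * c⁻¹⁻¹) * (e ^ n)⁻¹) * c⁻¹ = (c * e ^ n * c⁻¹) * q * (c * e ^ n * c⁻¹)⁻¹ by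
      group, ← conj_pow] at h
    exact h
  have hgq1 : ∀ {q : G}, q ∈ qOf 3 E → g * q * g⁻¹ ∈ qOf 3 E := fun hq => by
    simpa using hgq (n := 1) hq
  have hgW : ∀ y ∈ wOf 3 E, g * y * g⁻¹ ∈ wOf 3 E := by
    intro y hy
    have h := S.conj_w hc (conj_wOf (le_normalizer he) (S.conj_w hci hy))
    rw [show c * (e * (c⁻¹ * y * c⁻¹⁻¹) * e⁻¹) * c⁻¹ = g * y * g⁻¹ by rw [hg]; group] at h
    exact h
  have hgZ : ∀ y ∈ zOf 3 E, g * y * g⁻¹ = y := by
    intro y hy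
    have h := mem_centralizer_iff.1 (mem_inf.1 (hcZ hci y hy)).2 e he
    calc g * y * g⁻¹ = c * (e * (c⁻¹ * y * c⁻¹⁻¹)) * e⁻¹ * c⁻¹ := by rw [hg]; group
      _ = y := by rw [h]; group
  -- the action on the top
  let t : (Fin 2 → K) → (Fin 2 → K) := fun v =>
    S.X.crd ⟨g * ((S.X.exists_crd v).choose : G) * g⁻¹, hgq1 (S.X.exists_crd v).choose.2⟩
  have ht : ∀ q : ↥(qOf 3 E), t (S.X.crd q) = S.X.crd ⟨g * q * g⁻¹, hgq1 q.2⟩ := by
    intro q
    refine (S.X.crd_eq_iff _ _).2 ?_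
    set q' := (S.X.exists_crd (S.X.crd q)).choose
    have h := hgW _ ((S.X.crd_eq_iff q' q).1 (S.X.exists_crd (S.X.crd q)).choose_spec)
    show (g * (q' : G) * g⁻¹)⁻¹ * (g * (q : G) * g⁻¹) ∈ wOf 3 E
    rwa [show (g * (q' : G) * g⁻¹)⁻¹ * (g * (q : G) * g⁻¹) = g * ((q' : G)⁻¹ * q) * g⁻¹ by group]
  have hdet : ∀ u v, det2 (t u) (t v) = det2 u v := by
    intro u v
    obtain ⟨a, rfl⟩ := S.X.exists_crd u
    obtain ⟨b, rfl⟩ := S.X.exists_crd v
    refine S.phi_injective ?_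
    rw [ht, ht, ← S.comm_eq, ← S.comm_eq]
    show ⁅g * (a : G) * g⁻¹, g * (b : G) * g⁻¹⁆ = ⁅(a : G), (b : G)⁆
    rw [show ⁅g * (a : G) * g⁻¹, g * (b : G) * g⁻¹⁆ = g * ⁅(a : G), (b : G)⁆ * g⁻¹ by
      simp only [commutatorElement_def]; group, hgZ _ (S.qq a.2 b.2)]
  have htadd : ∀ u v, t (u + v) = t u + t v := by
    intro u v
    obtain ⟨a, rfl⟩ := S.X.exists_crd u
    obtain ⟨b, rfl⟩ := S.X.exists_crd v
    rw [← S.X.crd_mul, ht, ht, ht, ← S.X.crd_mul]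
    congr 1
    apply Subtype.ext
    show g * ((a : G) * b) * g⁻¹ = (g * (a : G) * g⁻¹) * (g * (b : G) * g⁻¹)
    group
  have hiter : ∀ (n : ℕ) (q : ↥(qOf 3 E)), (t^[n]) (S.X.crd q) = S.X.crd ⟨g ^ n * q * (g ^ n)⁻¹, hgq q.2⟩ := by
    intro n
    induction n with
    | zero => intro q; simp
    | succ n ih =>
      intro q
      rw [Function.iterate_succ_apply', ih, ht]
      congr 1
      apply Subtype.ext
      show g * (g ^ n * (q : G) * (g ^ n)⁻¹) * g⁻¹ = g ^ (n + 1) * (q : G) * (g ^ (n + 1))⁻¹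
      rw [pow_succ']; group
  have hperiod : ∀ v, (t^[orderOf e]) v = v := by
    intro v
    obtain ⟨q, rfl⟩ := S.X.exists_crd v
    rw [hiter]
    congr 1
    apply Subtype.ext
    show g ^ orderOf e * (q : G) * (g ^ orderOf e)⁻¹ = q
    rw [hg, conj_pow, pow_orderOf_eq_one]; group
  have hsurj : Function.Surjective t := fun v => ⟨t^[orderOf e - 1] v, by
    rw [← Function.iterate_succ_apply' (f := t), Nat.succ_eq_add_one, Nat.sub_add_cancel (orderOf_pos e), hperiod]⟩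
  have hsm : ∀ (s : K) v, t (s • v) = s • t v := by
    intro s v
    have key : ∀ w, det2 w (t (s • v) - s • t v) = 0 := by
      intro w
      obtain ⟨u, rfl⟩ := hsurj w
      have h1 := hdet u (s • v)
      have h2 := hdet u v
      simp only [det2, Pi.smul_apply, Pi.sub_apply, smul_eq_mul] at h1 h2 ⊢
      linear_combination h1 - s * h2
    exact sub_eq_zero.1 (eq_zero_of_det2 key)
  let Mt : SL(2, K) := ⟨!![t ![1, 0] 0, t ![0, 1] 0; t ![1, 0] 1, t ![0, 1] 1], by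
    have := hdet ![1, 0] ![0, 1]
    simp [det2] at this
    rw [det_fin_two_of]
    linear_combination this⟩
  have hMt : ∀ v, (Mt : Matrix (Fin 2) (Fin 2) K) *ᵥ v = t v := by
    intro v
    conv_rhs => rw [show v = v 0 • ![1, 0] + v 1 • ![0, 1] by funext i; fin_cases i <;> simp, htadd, hsm, hsm]
    funext i
    fin_cases i <;> simp [Mt, Matrix.mulVec, dotProduct, Fin.sum_univ_two] <;> ring
  have hMtn : Mt ^ orderOf e = 1 := by
    have h : ∀ (n : ℕ) v, ((Mt ^ n : SL(2, K)) : Matrix (Fin 2) (Fin 2) K) *ᵥ v = (t^[n]) v := by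
      intro n
      induction n with
      | zero => intro v; simp
      | succ n ih =>
        intro v
        rw [pow_succ', Matrix.SpecialLinearGroup.coe_mul, ← Matrix.mulVec_mulVec, ih, hMt,
          Function.iterate_succ_apply']
    refine Subtype.ext (Matrix.ext_iff_mulVec.mpr fun v => ?_)
    rw [h, hperiod]
    simp
  have hmem : Mt ∈ S.X.ρ'.range := by
    rw [S.X.range']
    by_cases h4 : 4 ≤ Fintype.card K
    · rw [Cfsg.Lib.Known.sl2_commutator_eq_top K h4]; exact mem_top _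
    · obtain ⟨hq, hp⟩ := S.X.D.small_card h4
      exact coprime_mem_normal (p := 3) (k := 1) (by rw [index_commutator_small hq, hp, pow_one]) hco hMtn
  obtain ⟨⟨e', he'⟩, hρe'⟩ := hmem
  set h := e'⁻¹ * g with hh
  have hgact : ∀ u ∈ w1Of 3 E, g * u * g⁻¹ = e * u * e⁻¹ := by
    intro u hu
    have h1 : c⁻¹ * u * c = u := by rw [mul_assoc, mem_centralizer_iff.1 hc u hu, inv_mul_cancel_left]
    have h2 := hH1 (hEH he) u hu
    calc g * u * g⁻¹ = c * (e * (c⁻¹ * u * c) * e⁻¹) * c⁻¹ := by rw [hg]; group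
      _ = e * u * e⁻¹ := by rw [h1, ← mem_centralizer_iff.1 hc _ h2, mul_inv_cancel_right]
  have hhM : h ∈ Mh := by
    refine ⟨mul_mem (inv_mem (hEH he')) hgH, fun r hr => ?_, fun q hq => ?_, fun y hy => ?_⟩
    · rw [show ⁅h, r⁆ = e'⁻¹ * (c * ⁅e, c⁻¹ * r * c⁻¹⁻¹⁆ * c⁻¹) * e'⁻¹⁻¹ * ⁅e'⁻¹, r⁆ by
        rw [hh, hg]; simp only [commutatorElement_def]; group]
      exact mul_mem (conj_qOf (inv_mem (le_normalizer he'))
        (S.normalizes_top hc (comm_rOf S.hblk he (conj_rOf (inv_mem hcH) hr))))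
        (comm_rOf S.hblk (inv_mem he') hr)
    · have hq1 : e'⁻¹ * (g * q * g⁻¹) * e'⁻¹⁻¹ ∈ qOf 3 E :=
        conj_qOf (inv_mem (le_normalizer he')) (hgq1 hq)
      have e1 : S.X.crd ⟨_, hq1⟩ = S.X.crd ⟨q, hq⟩ := by
        have h1 := S.X.act'_elem (⟨e', he'⟩⁻¹) (S.X.crd ⟨g * q * g⁻¹, hgq1 hq⟩)
        rw [S.X.act'_crd] at h1
        refine h1.trans ?_
        rw [← ht ⟨q, hq⟩, ← hMt, map_inv, hρe', Matrix.mulVec_mulVec, ← Matrix.SpecialLinearGroup.coe_mul,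
          inv_mul_cancel, Matrix.SpecialLinearGroup.coe_one, one_mulVec]
      have h2 := (S.X.crd_eq_iff _ _).1 e1.symm
      rw [show ⁅h, q⁆ = q * (q⁻¹ * (e'⁻¹ * (g * q * g⁻¹) * e'⁻¹⁻¹)) * q⁻¹ by
        rw [hh]; simp only [commutatorElement_def]; group]
      exact conj_wOf (le_normalizer (qOf_le E hq)) h2
    · have h1 : ⁅g, y⁆ ∈ w1Of 3 E := by
        rw [show ⁅g, y⁆ = c * ⁅e, c⁻¹ * y * c⁻¹⁻¹⁆ * c⁻¹ by rw [hg]; simp only [commutatorElement_def]; group]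
        exact hH1 hcH _ (S.comm_w1 he (S.conj_w hci hy))
      rw [show ⁅h, y⁆ = e'⁻¹ * ⁅g, y⁆ * e'⁻¹⁻¹ * ⁅e'⁻¹, y⁆ by rw [hh]; simp only [commutatorElement_def]; group]
      exact mul_mem (hH1 (inv_mem (hEH he')) _ h1) (S.comm_w1 (inv_mem he') hy)
  set δ := e'⁻¹ * e with hδ
  have hδE : δ ∈ E := mul_mem (inv_mem he') he
  have hhact : ∀ u ∈ w1Of 3 E, h * u * h⁻¹ = δ * u * δ⁻¹ := fun u hu => by
    calc h * u * h⁻¹ = e'⁻¹ * (g * u * g⁻¹) * e' := by rw [hh]; group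
      _ = δ * u * δ⁻¹ := by rw [hgact u hu, hδ]; group
  by_cases hδQ : δ ∈ qOf 3 E
  · have hhK : h ∈ Kst := by
      refine mem_inf.2 ⟨hhM, mem_centralizer_iff.2 fun u hu => ?_⟩
      have h1 := hhact u hu
      rw [← mem_centralizer_iff.1 (hQC δ hδQ) u hu, mul_inv_cancel_right] at h1
      exact (mul_inv_eq_iff_eq_mul.1 h1).symm
    have h2 : e' * e⁻¹ ∈ Kst := by
      have h3 : e' * δ⁻¹ * e'⁻¹ ∈ qOf 3 E := conj_qOf (le_normalizer he') (inv_mem hδQ)
      rw [show e' * δ⁻¹ * e'⁻¹ = e' * e⁻¹ by rw [hδ]; group] at h3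
      exact mem_inf.2 ⟨hQM _ h3, hQC _ h3⟩
    rw [show ⁅c, e⁆ = (e' * h * e'⁻¹) * (e' * e⁻¹) by rw [hh, hg, commutatorElement_def]; group]
    exact mul_mem (Cfsg.Lib.Large.conj_mem' _ (hKn e' (le_normalizer he')) hhK) h2
  exfalso
  let D : Subgroup ↥E :=
    { carrier := {d | ∃ m ∈ Mh, ∀ u ∈ w1Of 3 E, m * u * m⁻¹ = (d : G) * u * (d : G)⁻¹}
      one_mem' := ⟨1, one_mem _, fun u _ => by simp⟩
      mul_mem' := by
        rintro x y ⟨a, ha, ha'⟩ ⟨b, hb, hb'⟩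
        refine ⟨a * b, mul_mem ha hb, fun u hu => ?_⟩
        calc a * b * u * (a * b)⁻¹ = a * (b * u * b⁻¹) * a⁻¹ := by group
          _ = (x : G) * ((y : G) * u * (y : G)⁻¹) * (x : G)⁻¹ := by
            rw [hb' u hu, ha' _ (hH1 (hEH y.2) u hu)]
          _ = _ := by simp [mul_assoc]
      inv_mem' := by
        rintro x ⟨a, ha, ha'⟩
        refine ⟨a⁻¹, inv_mem ha, fun u hu => ?_⟩
        have h1 := ha' _ (hH1 (inv_mem (hEH x.2)) u hu)
        calc a⁻¹ * u * a⁻¹⁻¹ = a⁻¹ * ((x : G) * ((x : G)⁻¹ * u * (x : G)⁻¹⁻¹) * (x : G)⁻¹) * a⁻¹⁻¹ := by group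
          _ = a⁻¹ * (a * ((x : G)⁻¹ * u * (x : G)⁻¹⁻¹) * a⁻¹) * a⁻¹⁻¹ := by rw [h1]
          _ = _ := by simp [mul_assoc] }
  have hneg : (-1 : SL(2, K)) ∈ D.map S.X.D.ρ := by
    refine neg_one_mem_of_normal S.X.D.card S.two_ne ?_ ?_ ?_
    · rw [← S.X.D.range]; exact Subgroup.map_le_range _ _
    · intro h0
      have hm : S.X.D.ρ ⟨δ, hδE⟩ ∈ D.map S.X.D.ρ :=
        mem_map_of_mem _ (show (⟨δ, hδE⟩ : ↥E) ∈ D from ⟨h, hhM, hhact⟩)
      rw [h0, Subgroup.mem_bot] at hm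
      exact hδQ ((S.X.D.kerρ ⟨δ, hδE⟩).1 hm)
    · intro x hx y hy
      rw [← S.X.D.range] at hx
      obtain ⟨x, rfl⟩ := hx
      obtain ⟨y, ⟨m, hm, hm'⟩, rfl⟩ := hy
      refine ⟨x * y * x⁻¹, ⟨(x : G) * m * (x : G)⁻¹, hMconj _ (le_normalizer x.2) m hm, fun u hu => ?_⟩, by simp⟩
      have h1 := hm' _ (hH1 (inv_mem (hEH x.2)) u hu)
      calc (x : G) * m * (x : G)⁻¹ * u * ((x : G) * m * (x : G)⁻¹)⁻¹
          = (x : G) * (m * ((x : G)⁻¹ * u * (x : G)⁻¹⁻¹) * m⁻¹) * (x : G)⁻¹ := by group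
        _ = _ := by rw [h1]; simp [mul_assoc]
  obtain ⟨⟨d, hdE⟩, ⟨m, hm, hm'⟩, hd⟩ := hneg
  have hinvm : ∀ u ∈ w1Of 3 E, m * u * m⁻¹ = u⁻¹ := fun u hu => by
    rw [hm' u hu]; exact S.X.D.neg_one_inverts hE (by norm_num) hdE hd u hu
  obtain ⟨hmH, m1, m2, m3⟩ := id hm
  refine S.no_reflection (M := wOf 3 E) (s := m ^ 3) (pow_mem hmH 3) (fun y hy => wOf_pow E hy)
    (pow_layer m1 m2 (fun y hy => by
      rw [show m * y * m⁻¹ = ⁅m, y⁆ * y by rw [commutatorElement_def]; group]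
      exact mul_mem (w1_le_wOf hE (m3 y hy)) hy) fun q hq => S.q_cube hq)
    (pow_mem hm 3).2.2.2 fun u hu => ?_
  have hu' := hinvm u⁻¹ (inv_mem hu)
  rw [inv_inv] at hu'
  calc m ^ 3 * u * (m ^ 3)⁻¹ = m * (m * (m * u * m⁻¹) * m⁻¹) * m⁻¹ := by rw [pow_three]; group
    _ = u⁻¹ := by rw [hinvm u hu, hu', hinvm u hu]

end

/-- the centralizer of `[W, E]` normalizes the block -/
theorem normalizes {p : ℕ} [Fact p.Prime] (hG : centralizer (Cfsg.pCore p G : Set G) ≤ Cfsg.pCore p G)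
    {T : Sylow p G} {E : Subgroup G} (hE : Cfsg.IsBaumannBlock p (T : Subgroup G) E) :
    centralizer (w1Of p E : Set G) ≤ normalizer (E : Set G) := by
  by_cases hs : ∀ e ∈ E, ∀ x ∈ Cfsg.pCore p G, ⁅e, x⁆ ∈ wOf p E
  · exact normalizes_of_small hG hE hs
  push Not at hs
  obtain ⟨e, he, x, hx, hex⟩ := hs
  obtain ⟨hQP, hne⟩ := qOf_le_of_moved hG hE he hx hex
  have hfaith := (block_shape (E := E) ⟨T, hE⟩).2.1
  obtain ⟨hres, hEB, -, -, hcase⟩ := id hE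
  have hQtriv : ∀ x : ↥E, (x : G) ∈ qOf p E → ∀ u ∈ wOf p E, (x : G) * u * (x : G)⁻¹ = u := fun x hx u hu => by
    rw [mem_centralizer_iff.1 (mem_inf.1 (wOf_le E hu)).2 x hx, mul_inv_cancel_right]
  rcases hcase with ⟨K, iK, iKt, n, hF, -, ⟨-, -, ρ, ψ, hρ, hψs, hψ, hact⟩, hex'⟩ | ⟨-, m, -, -, hQW⟩
  swap
  · exact absurd hQW hne
  rcases hex' with hex' | ⟨h3, ⟨-, -, ρ', ψ', hρ', hψs', hψ', hact'⟩, h5, -, h7, h8, h9⟩
  · exact absurd hex' hne
  subst h3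
  have hker : ∀ x : ↥E, ρ x = 1 ↔ (x : G) ∈ qOf 3 E := fun x => by
    refine ⟨fun hx => hfaith x x.2 fun u hu => ?_, fun hx => ?_⟩
    · obtain ⟨w, hw1, hw2⟩ := hact x ⟨u, hu⟩
      rw [hx] at hw2
      replace hw2 : Multiplicative.toAdd (ψ w) = Multiplicative.toAdd (ψ ⟨u, hu⟩) := hw2.trans (one_mulVec _)
      have h1 := (hψ (w * ⟨u, hu⟩⁻¹)).1 (by
        rw [map_mul, map_inv, mul_inv_eq_one]; exact Multiplicative.toAdd.injective hw2)
      rw [Subgroup.coe_mul, Subgroup.coe_inv, hw1] at h1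
      exact h1
    · refine Subtype.ext (Matrix.ext_iff_mulVec.mpr fun v => ?_)
      obtain ⟨u, hu⟩ := hψs (Multiplicative.ofAdd v)
      obtain ⟨w, hw1, hw2⟩ := hact x u
      rw [Subtype.ext (hw1.trans (hQtriv x hx u u.2)), hu] at hw2
      simpa using hw2.symm
  let S : Ex E K :=
    { X := ⟨⟨n, hF, ρ, ψ, hψs, hψ, hact, hρ, hker⟩, ρ', ψ', hψs', hψ', hact', hρ', rfl, h5, h7, T, hEB, h9⟩
      hG := hG
      hblk := hE
      top := hQP.trans (core_le_rOf ⟨T, hE⟩)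
      cardZ := (congrArg (fun H : Subgroup G => Nat.card H) h7).symm.trans (h8.trans hF.symm) }
  exact fun c hc => S.normalizes hc

end Cfsg.Lib.BlockNormal
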